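import Cfsg.Agent.Lib.Leech.Census
import Cfsg.Agent.Lib.Golay.Octads

/-! The weight distribution of the code and the resulting counts of short lattice vectors. -/

set_option autoImplicit false

namespace CfsgLib.Leech

open Cfsg CfsgLib
open scoped Classical

/-- The weight distribution. -/
def weightDist (w : ℕ) : ℕ :=
  if w = 0 ∨ w = 24 then 1 else if w = 8 ∨ w = 16 then 759 else if w = 12 then 2576 else 0

theorem weight_count_checks :
    Golay.countR (fun x => let c := Golay.comb x; Nat.beq (Golay.pc24 c) 0 && (fun _ => true) c) 12 0 = 1 ∧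
      Golay.countR (fun x => let c := Golay.comb x; Nat.beq (Golay.pc24 c) 16 && (fun _ => true) c) 12 0 = 759 ∧
      Golay.countR (fun x => let c := Golay.comb x; Nat.beq (Golay.pc24 c) 24 && (fun _ => true) c) 12 0 = 1 := by
  decide +kernel

theorem codeWt_eq_ncard (w : ℕ) :
    codeWt w = (wordsOfWeight (golayCode : Set (GolayPt → ZMod 2)) w).ncard := by
  rw [codeWt, ← Finset.card_image_of_injective _ Golay.support₂_injective, ← Set.ncard_coe_finset]
  refine congrArg Set.ncard (Set.ext fun b => ?_)
  rw [Finset.coe_image]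
  constructor
  · rintro ⟨c, hc, rfl⟩
    rw [Finset.mem_coe, Finset.mem_filter, mem_codeFin] at hc
    exact ⟨⟨c, hc.1, rfl⟩, hc.2⟩
  · rintro ⟨⟨c, hc, rfl⟩, hcard⟩
    refine ⟨c, ?_, rfl⟩
    rw [Finset.mem_coe, Finset.mem_filter, mem_codeFin]
    exact ⟨hc, hcard⟩

theorem codeWt_eq (w : ℕ) : codeWt w = weightDist w := by
  by_cases h : w = 0 ∨ w = 8 ∨ w = 12 ∨ w = 16 ∨ w = 24
  · rw [codeWt_eq_ncard, Golay.ncard_weight]
    rcases h with rfl | rfl | rfl | rfl | rfl
    · exact weight_count_checks.1
    · exact Golay.count_checks.1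
    · exact Golay.count_checks.2
    · exact weight_count_checks.2.1
    · exact weight_count_checks.2.2
  · have h0 : weightDist w = 0 := by
      unfold weightDist; rw [if_neg (by omega), if_neg (by omega), if_neg (by omega)]
    rw [h0, codeWt, Finset.card_eq_zero, Finset.filter_eq_empty_iff]
    intro c hc hw
    rw [mem_codeFin] at hc
    rcases Golay.weight_cases hc with e | e | e | e | e <;> omega

/-- The census as a closed arithmetic expression. -/
theorem census_card' (N : ℕ) (hN : N ≤ 80) (hN24 : 24 ≤ N) (hN4 : N % 4 = 0) :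
    {x : GolayPt → ℤ | x ∈ leechLattice ∧ sqNorm x = (N : ℤ)}.ncard =
      ∑ p : Bool, ∑ w ∈ Finset.range 25, weightDist w * partCount N p w := by
  rw [census_card N hN hN24 hN4]
  simp only [codeWt_eq]

theorem count_norm32 : {x : GolayPt → ℤ | x ∈ leechLattice ∧ sqNorm x = 32}.ncard = 196560 :=
  (census_card' 32 (by norm_num) (by norm_num) (by norm_num)).trans (by decide +kernel)

theorem count_norm48 : {x : GolayPt → ℤ | x ∈ leechLattice ∧ sqNorm x = 48}.ncard = 16773120 :=
  (census_card' 48 (by norm_num) (by norm_num) (by norm_num)).trans (by decide +kernel)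

theorem count_norm64 : {x : GolayPt → ℤ | x ∈ leechLattice ∧ sqNorm x = 64}.ncard = 398034000 :=
  (census_card' 64 (by norm_num) (by norm_num) (by norm_num)).trans (by decide +kernel)

end CfsgLib.Leech
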