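import Cfsg.Agent.Lib.Leech.Orbits.Classify
import Cfsg.Agent.Lib.Leech.CensusValues
import Cfsg.Agent.Lib.Golay.M24
import Cfsg.Prelude.Def_SporadicCombinatorics

/-! The monomial group, the order of the automorphism group of the lattice and its centre. -/

set_option autoImplicit false

namespace CfsgLib.Leech

open Cfsg CfsgLib
open scoped Pointwise

/-- Eight times a coordinate vector. -/
def eightVec (i : GolayPt) : leechLattice :=
  ⟨Pi.single i 8, mem_leech_iff.2 ⟨fun j => by
      by_cases h : j = i <;> by_cases h' : (none : GolayPt) = i <;> simp [Pi.single_apply, h, h'], by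
      have : bits (Pi.single i (8 : ℤ) : GolayPt → ℤ) = 0 := by
        funext j; by_cases h : j = i <;> simp [bits, bit, Pi.single_apply, h] <;> decide
      rw [this]; exact zero_mem _, by
      rw [Finset.sum_pi_single']
      by_cases h : (none : GolayPt) = i <;> simp [Pi.single_apply, h]⟩⟩

theorem coe_eightVec (i : GolayPt) : (eightVec i : GolayPt → ℤ) = Pi.single i 8 := rfl

theorem dotInt_single (x : GolayPt → ℤ) (i : GolayPt) (a : ℤ) :
    dotInt x (Pi.single i a) = x i * a := by
  simp [dotInt, Pi.single_apply]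

theorem sqNorm_eightVec (i : GolayPt) : sqNorm (eightVec i : GolayPt → ℤ) = 64 := by
  rw [coe_eightVec]
  simp [sqNorm, Pi.single_apply, ite_pow]

theorem eight_smul_eq (v : leechLattice) :
    (8 : ℤ) • v = ∑ i, ((v : GolayPt → ℤ) i) • eightVec i := by
  refine Subtype.ext ?_
  rw [AddSubgroupClass.coe_zsmul, AddSubgroup.val_finsetSum]
  funext j
  simp only [Finset.sum_apply, AddSubgroupClass.coe_zsmul, coe_eightVec, Pi.smul_apply,
    Pi.single_apply, smul_eq_mul, mul_ite, mul_zero, Finset.sum_ite_eq, Finset.mem_univ, if_true]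
  ring

theorem eight_mul_smul_apply (g : Co0) (v : leechLattice) (j : GolayPt) :
    8 * ((g • v : leechLattice) : GolayPt → ℤ) j =
      ∑ i, (v : GolayPt → ℤ) i * ((g • eightVec i : leechLattice) : GolayPt → ℤ) j := by
  have h := congrArg (fun w : leechLattice => ((g • w : leechLattice) : GolayPt → ℤ) j) (eight_smul_eq v)
  simp only [smul_zsmul', smul_sum', AddSubgroup.val_finsetSum, Finset.sum_apply,
    AddSubgroupClass.coe_zsmul, Pi.smul_apply, smul_eq_mul] at h
  exact h

theorem ext_eightVec {g h : Co0} (H : ∀ i, g • eightVec i = h • eightVec i) : g = h := by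
  refine Subtype.ext (Equiv.ext fun v => Subtype.ext (funext fun j => ?_))
  show ((g • v : leechLattice) : GolayPt → ℤ) j = ((h • v : leechLattice) : GolayPt → ℤ) j
  have h1 := eight_mul_smul_apply g v j
  have h2 := eight_mul_smul_apply h v j
  simp only [H] at h1
  omega

/-- Two short vectors congruent modulo twice the lattice. -/
theorem cong_short {x y z : GolayPt → ℤ} (hy : y ∈ leechLattice)
    (hz : z ∈ leechLattice) (h : x - y = 2 • z) (hxn : sqNorm x = 64) (hyn : sqNorm y = 64) :
    x = y ∨ x = -y ∨ dotInt x y = 0 := by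
  by_cases h1 : z = 0
  · left
    rw [h1, smul_zero] at h
    exact sub_eq_zero.1 h
  by_cases h2 : y + z = 0
  · right; left
    have : z = -y := (neg_eq_of_add_eq_zero_right h2).symm
    rw [this, sub_eq_iff_eq_add] at h
    rw [h]; abel
  right; right
  have A := leech_min_norm hz h1
  have B := leech_min_norm (add_mem hy hz) h2
  have hx' : x = y + z + z := by
    rw [sub_eq_iff_eq_add] at h; rw [h]; abel
  have e0 : sqNorm (y + z) = sqNorm y + 2 * dotInt y z + sqNorm z := sqNorm_add y z
  have e1 : dotInt (y + z) z = dotInt y z + sqNorm z := by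
    simp only [dotInt, sqNorm, Pi.add_apply, ← Finset.sum_add_distrib]
    exact Finset.sum_congr rfl fun i _ => by ring
  have e2 : dotInt x y = sqNorm y + 2 * dotInt y z := by
    rw [hx']
    simp only [dotInt, sqNorm, Pi.add_apply, Finset.mul_sum, ← Finset.sum_add_distrib]
    exact Finset.sum_congr rfl fun i _ => by ring
  have e3 : sqNorm x = sqNorm (y + z) + 2 * dotInt (y + z) z + sqNorm z := by
    rw [hx']; exact sqNorm_add _ _
  omega

theorem mem_stdCross_iff {v : leechLattice} :
    (v : GolayPt → ℤ) ∈ stdCross ↔ ∃ i, v = eightVec i ∨ v = -eightVec i := by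
  constructor
  · rintro ⟨i, s, hs | hs, h⟩ <;> subst hs
    · exact ⟨i, Or.inl (Subtype.ext h)⟩
    · refine ⟨i, Or.inr (Subtype.ext ?_)⟩
      rw [h, NegMemClass.coe_neg, coe_eightVec, ← Pi.single_neg]
  · rintro ⟨i, rfl | rfl⟩
    · exact ⟨i, 8, Or.inl rfl, rfl⟩
    · exact ⟨i, -8, Or.inr rfl, by rw [NegMemClass.coe_neg, coe_eightVec, ← Pi.single_neg]⟩

/-- The elements preserving the standard cross. -/
def StdStab (g : Co0) : Prop :=
  ∀ v : leechLattice, (v : GolayPt → ℤ) ∈ stdCross → ((g • v : leechLattice) : GolayPt → ℤ) ∈ stdCross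

theorem stdStab_iff (g : Co0) :
    StdStab g ↔ ∀ i, ((g • eightVec i : leechLattice) : GolayPt → ℤ) ∈ stdCross := by
  refine ⟨fun h i => h _ (mem_stdCross_iff.2 ⟨i, Or.inl rfl⟩), fun h v hv => ?_⟩
  obtain ⟨i, rfl | rfl⟩ := mem_stdCross_iff.1 hv
  · exact h i
  · obtain ⟨j, hj⟩ := mem_stdCross_iff.1 (h i)
    refine mem_stdCross_iff.2 ⟨j, ?_⟩
    rw [smul_neg']
    rcases hj with hj | hj <;> rw [hj]
    · exact Or.inr rfl
    · exact Or.inl (neg_neg _)

theorem eightVec_sub_eq_two_nsmul (i : GolayPt) :
    ∃ w : leechLattice, eightVec i - eightVec none = 2 • w := by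
  have hw : (Pi.single i 4 - Pi.single none 4 : GolayPt → ℤ) ∈ leechLattice := by
    rw [mem_leech_iff]
    refine ⟨fun j => ?_, ?_, ?_⟩
    · simp only [Pi.sub_apply, Pi.single_apply]; split_ifs <;> omega
    · have : bits (Pi.single i 4 - Pi.single none 4 : GolayPt → ℤ) = 0 := by
        funext j
        simp only [bits, bit, Pi.sub_apply, Pi.single_apply, Pi.zero_apply]
        split_ifs <;> decide
      rw [this]; exact zero_mem _
    · simp only [Pi.sub_apply, Finset.sum_sub_distrib]
      rw [Finset.sum_pi_single', Finset.sum_pi_single']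
      simp only [Finset.mem_univ, if_true, sub_self, Pi.sub_apply, Pi.single_apply]
      split_ifs <;> omega
  refine ⟨⟨_, hw⟩, Subtype.ext ?_⟩
  funext j
  simp only [AddSubgroupClass.coe_sub, coe_eightVec, Pi.sub_apply, AddSubmonoidClass.coe_nsmul,
    Pi.smul_apply, Pi.single_apply, nsmul_eq_mul]
  split_ifs <;> norm_num

theorem stdStab_of_fix {g : Co0} (hg : g • eightVec none = eightVec none) : StdStab g := by
  rw [stdStab_iff]
  intro i
  obtain ⟨w, hw⟩ := eightVec_sub_eq_two_nsmul i
  set y := g • eightVec i with hy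
  have hdiff : y - eightVec none = 2 • (g • w) := by
    have h := congrArg (toAddHom g) hw
    rw [map_sub, map_nsmul] at h
    show g • eightVec i - eightVec none = _
    conv_lhs => rw [← hg]
    exact h
  have hyn : sqNorm (y : GolayPt → ℤ) = 64 := by rw [hy, sqNorm_smul]; exact sqNorm_eightVec i
  by_contra hns
  have hzero : ∀ j, (y : GolayPt → ℤ) j = 0 := by
    intro j
    obtain ⟨wj, hwj⟩ := eightVec_sub_eq_two_nsmul j
    have hd : y - eightVec j = 2 • (g • w - wj) := by
      rw [smul_sub, ← hdiff, ← hwj]; abel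
    have hd' : (y : GolayPt → ℤ) - (eightVec j : GolayPt → ℤ) =
        2 • ((g • w - wj : leechLattice) : GolayPt → ℤ) := by
      rw [← AddSubgroupClass.coe_sub, hd]; rfl
    rcases cong_short (eightVec j).2 (g • w - wj).2 hd' hyn (sqNorm_eightVec j) with h | h | h
    · exact absurd (mem_stdCross_iff.2 ⟨j, Or.inl (Subtype.ext h)⟩) hns
    · exact absurd (mem_stdCross_iff.2 ⟨j, Or.inr (Subtype.ext h)⟩) hns
    · rw [coe_eightVec, dotInt_single] at h
      omega
  simp [sqNorm, hzero] at hyn

theorem monoFun_single (τ : Equiv.Perm GolayPt) (c : GolayPt → ZMod 2) (i : GolayPt) (a : ℤ) :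
    monoFun τ c (Pi.single i a) = Pi.single (τ⁻¹ i) (if c (τ⁻¹ i) = 1 then -a else a) := by
  funext j
  simp only [monoFun, Pi.single_apply]
  by_cases h : τ j = i
  · have hj : j = τ⁻¹ i := by rw [← h]; simp
    subst hj; simp
  · have hj : j ≠ τ⁻¹ i := fun e => h (by rw [e]; simp)
    rw [if_neg h, if_neg hj]; simp

theorem exists_mono_of_stdStab {g : Co0} (hg : StdStab g) :
    ∃ (τ : Equiv.Perm GolayPt) (hτ : τ ∈ M24) (c : GolayPt → ZMod 2) (hc : c ∈ golayCode),
      g = monoEl τ hτ c hc := by
  classical
  rw [stdStab_iff] at hg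
  choose f hf using fun i => mem_stdCross_iff.1 (hg i)
  have hinj : Function.Injective f := by
    intro i j hij
    have hcases : g • eightVec i = g • eightVec j ∨ g • eightVec i = g • (-eightVec j) := by
      rw [smul_neg']
      rcases hf i with h1 | h1 <;> rcases hf j with h2 | h2 <;> rw [h1, h2, hij]
      · exact Or.inl rfl
      · exact Or.inr (neg_neg _).symm
      · exact Or.inr rfl
      · exact Or.inl rfl
    by_contra hne
    rcases hcases with h | h <;>
      have := congrArg (fun v : leechLattice => (v : GolayPt → ℤ) i) (smul_left_cancel g h)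
    · simp [coe_eightVec, Pi.single_apply, hne] at this
    · simp [coe_eightVec, Pi.single_apply, hne] at this
  let σ := Equiv.ofBijective f (Finite.injective_iff_bijective.1 hinj)
  let τ := σ.symm
  let c : GolayPt → ZMod 2 := fun p => if g • eightVec (τ p) = eightVec p then 0 else 1
  have himg : ∀ i, ((g • eightVec i : leechLattice) : GolayPt → ℤ) =
      monoFun τ c (Pi.single i 8) := by
    intro i
    rw [monoFun_single]
    have hs : τ⁻¹ i = f i := by simp [τ, σ, Equiv.Perm.coe_inv]
    have hback : τ (f i) = i := by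
      show σ.symm (σ i) = i
      exact σ.symm_apply_apply i
    rw [hs]
    rcases hf i with h | h
    · simp only [c, hback, h, if_true]; simp [coe_eightVec]
    · have hne : ¬ -eightVec (f i) = eightVec (f i) := by
        intro e
        have := congrArg (fun v : leechLattice => (v : GolayPt → ℤ) (f i)) e
        simp [coe_eightVec] at this
      simp only [c, hback, h, hne, if_false, if_true, NegMemClass.coe_neg, coe_eightVec]
      exact (Pi.single_neg _ _).symm
  have hall : ∀ v : leechLattice, ((g • v : leechLattice) : GolayPt → ℤ) = monoFun τ c v := by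
    intro v; funext j
    have h := eight_mul_smul_apply g v j
    simp only [himg] at h
    have e : ∑ i, (v : GolayPt → ℤ) i * monoFun τ c (Pi.single i 8) j =
        8 * monoFun τ c v j := by
      simp only [monoFun, Pi.single_apply]
      by_cases hc : c j = 1
      · simp only [hc, if_true, mul_neg, mul_ite, mul_zero, Finset.sum_neg_distrib,
          Finset.sum_ite_eq, Finset.mem_univ]
        ring
      · simp only [hc, if_false, mul_ite, mul_zero, Finset.sum_ite_eq, Finset.mem_univ, if_true]
        ring
    omega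
  have hmem : ∀ x ∈ leechLattice, monoFun τ c x ∈ leechLattice := fun x hx => by
    rw [← hall ⟨x, hx⟩]; exact Subtype.coe_prop _
  have hτ : τ ∈ M24 := by
    refine Golay.mem_M24_of_comp fun w hw => ?_
    obtain ⟨h, hh, hev, rfl⟩ := exists_even_mem_genSub hw
    have h2 := (mem_leech_iff.1 (hmem h (genSub_le hh))).2.1
    convert h2 using 1
    funext p
    simp only [bits, monoFun, Function.comp_apply]
    split
    · rw [bit_neg, hev]; simp
    · rfl
  have hc : c ∈ golayCode := by
    have hg' : leechGen 12 ∈ leechLattice := leechGen_mem (by norm_num)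
    have h2 := (mem_leech_iff.1 (hmem _ hg')).2.1
    have h3 := mem_supports_comp hτ (mem_leech_iff.1 hg').2.1
    have e : bits (monoFun τ c (leechGen 12)) = bits (leechGen 12) ∘ τ + c := by
      funext p
      have hodd : leechGen 12 (τ p) % 2 = 1 := by
        generalize τ p = q; revert q; decide +kernel
      simp only [bits, monoFun, Pi.add_apply, Function.comp_apply]
      rcases zmod_two_cases (c p) with h | h <;> rw [h]
      · simp
      · rw [if_pos rfl, bit_neg, hodd]; rfl
    rw [e] at h2
    simpa using golayCode.sub_mem h2 h3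
  exact ⟨τ, hτ, c, hc, ext_eightVec fun i => Subtype.ext (hall _)⟩

theorem stdStab_monoEl {τ : Equiv.Perm GolayPt} (hτ : τ ∈ M24) {c : GolayPt → ZMod 2}
    (hc : c ∈ golayCode) : StdStab (monoEl τ hτ c hc) := by
  rw [stdStab_iff]
  intro i
  rw [coe_monoEl_smul, coe_eightVec, monoFun_single]
  refine ⟨τ⁻¹ i, if c (τ⁻¹ i) = 1 then -8 else 8, ?_, rfl⟩
  split
  · exact Or.inr rfl
  · exact Or.inl rfl

/-- The monomial parametrisation. -/
def monoMap (p : M24 × golayCode) : Co0 := monoEl p.1.1 p.1.2 p.2.1 p.2.2

theorem monoMap_injective : Function.Injective monoMap := by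
  rintro ⟨⟨τ, hτ⟩, ⟨c, hc⟩⟩ ⟨⟨τ', hτ'⟩, ⟨c', hc'⟩⟩ h
  have key : ∀ j, τ j = τ' j ∧ c j = c' j := by
    intro j
    have h1 := congrArg (fun g : Co0 => ((g • eightVec (τ j) : leechLattice) : GolayPt → ℤ) j) h
    simp only [monoMap, coe_monoEl_smul, coe_eightVec, monoFun, Pi.single_apply, if_true] at h1
    rcases zmod_two_cases (c j) with e | e <;> rcases zmod_two_cases (c' j) with e' | e' <;>
      simp only [e, e'] at h1 ⊢ <;> simp at h1 ⊢ <;>
      by_cases hτe : τ' j = τ j <;> simp [hτe] at h1 ⊢
  refine Prod.ext (Subtype.ext (Equiv.ext fun j => (key j).1)) (Subtype.ext (funext fun j => (key j).2))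

theorem range_monoMap : Set.range monoMap = {g | StdStab g} := by
  ext g
  constructor
  · rintro ⟨p, rfl⟩; exact stdStab_monoEl _ _
  · intro hg
    obtain ⟨τ, hτ, c, hc, rfl⟩ := exists_mono_of_stdStab hg
    exact ⟨(⟨τ, hτ⟩, ⟨c, hc⟩), rfl⟩

theorem card_stdStab : Nat.card {g : Co0 // StdStab g} = 4096 * 244823040 := by
  rw [← Set.coe_ofPred, ← range_monoMap, Nat.card_range_of_injective monoMap_injective, Nat.card_prod,
    Golay.card_M24, Golay.card_golay]
  norm_num

/-- The kernel of the coordinate at the extra point. -/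
def codeAt : golayCode →ₗ[ZMod 2] ZMod 2 where
  toFun c := c.1 none
  map_add' _ _ := rfl
  map_smul' _ _ := rfl

theorem card_ker_codeAt : Nat.card (LinearMap.ker codeAt) = 2 ^ 11 := by
  have hs : Function.Surjective codeAt := by
    intro a
    rcases zmod_two_cases a with rfl | rfl
    · exact ⟨0, rfl⟩
    · exact ⟨⟨1, Golay.one_mem_golay⟩, rfl⟩
  have h := Submodule.card_eq_card_quotient_mul_card (LinearMap.ker codeAt)
  rw [Nat.card_congr (codeAt.quotKerEquivOfSurjective hs).toEquiv, Nat.card_zmod,
    Golay.card_golay] at h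
  omega

theorem mem_stabilizer_eightVec {g : Co0} :
    g ∈ MulAction.stabilizer Co0 (eightVec none) ↔
      ∃ (τ : Equiv.Perm GolayPt) (hτ : τ ∈ M24) (c : GolayPt → ZMod 2) (hc : c ∈ golayCode),
        τ none = none ∧ c none = 0 ∧ g = monoEl τ hτ c hc := by
  rw [MulAction.mem_stabilizer_iff]
  constructor
  · intro h
    obtain ⟨τ, hτ, c, hc, rfl⟩ := exists_mono_of_stdStab (stdStab_of_fix h)
    have h1 := congrArg (fun v : leechLattice => (v : GolayPt → ℤ) none) h
    simp only [coe_monoEl_smul, coe_eightVec, monoFun, Pi.single_apply, if_true] at h1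
    by_cases ht : τ none = none
    · rcases zmod_two_cases (c none) with e | e
      · exact ⟨τ, hτ, c, hc, ht, e, rfl⟩
      · rw [e] at h1; simp [ht] at h1
    · simp [ht] at h1
  · rintro ⟨τ, hτ, c, hc, ht, hc0, rfl⟩
    refine Subtype.ext ?_
    have hinv : τ⁻¹ none = none := Equiv.Perm.inv_eq_iff_eq.2 ht.symm
    rw [coe_monoEl_smul, coe_eightVec, monoFun_single, hinv, hc0, if_neg (by decide)]

theorem card_stabilizer_eightVec :
    Nat.card (MulAction.stabilizer Co0 (eightVec none)) = 10200960 * 2 ^ 11 := by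
  have e : Nat.card (MulAction.stabilizer Co0 (eightVec none)) =
      Nat.card (Golay.fixPts M24 [none] × LinearMap.ker codeAt) := by
    refine (Nat.card_congr (Equiv.ofBijective (fun p : Golay.fixPts M24 [none] × LinearMap.ker codeAt =>
      (⟨monoMap (⟨p.1.1, (Golay.mem_fixPts.1 p.1.2).1⟩, p.2.1),
        mem_stabilizer_eightVec.2 ⟨p.1.1, _, p.2.1.1, _,
          (Golay.mem_fixPts.1 p.1.2).2 none (List.mem_singleton_self _), p.2.2, rfl⟩⟩ :
        MulAction.stabilizer Co0 (eightVec none))) ⟨?_, ?_⟩)).symm
    · intro p q h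
      have h' := monoMap_injective (congrArg Subtype.val h)
      simp only [Prod.mk.injEq, Subtype.mk.injEq] at h'
      exact Prod.ext (Subtype.ext h'.1) (Subtype.ext h'.2)
    · rintro ⟨g, hg⟩
      obtain ⟨τ, hτ, c, hc, ht, hc0, rfl⟩ := mem_stabilizer_eightVec.1 hg
      exact ⟨(⟨τ, Golay.mem_fixPts.2 ⟨hτ, by simpa using ht⟩⟩, ⟨⟨c, hc⟩, hc0⟩), rfl⟩
  rw [e, Nat.card_prod, Golay.card_fix1, card_ker_codeAt]

theorem index_stabilizer_norm {N : ℤ} (v : leechLattice) (hv : sqNorm (v : GolayPt → ℤ) = N)
    (htr : ∀ a b : leechLattice, sqNorm (a : GolayPt → ℤ) = N → sqNorm (b : GolayPt → ℤ) = N →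
      ∃ g : Co0, g • a = b) :
    (MulAction.stabilizer Co0 v).index =
      {x : GolayPt → ℤ | x ∈ leechLattice ∧ sqNorm x = N}.ncard := by
  rw [MulAction.index_stabilizer]
  have h : (Subtype.val : leechLattice → (GolayPt → ℤ)) '' MulAction.orbit Co0 v =
      {x : GolayPt → ℤ | x ∈ leechLattice ∧ sqNorm x = N} := by
    ext x
    constructor
    · rintro ⟨w, ⟨g, rfl⟩, rfl⟩; exact ⟨Subtype.coe_prop _, (sqNorm_smul g v).trans hv⟩
    · rintro ⟨hx, hn⟩
      obtain ⟨g, hg⟩ := htr v ⟨x, hx⟩ hv hn
      exact ⟨⟨x, hx⟩, ⟨g, hg⟩, rfl⟩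
  rw [← h, Set.ncard_image_of_injective _ Subtype.val_injective]

theorem card_Co0 : Nat.card Co0 = 8315553613086720000 := by
  rw [← Subgroup.card_mul_index (MulAction.stabilizer Co0 (eightVec none)),
    card_stabilizer_eightVec,
    index_stabilizer_norm _ (sqNorm_eightVec none) Orbits.transitive64, count_norm64]
  norm_num

instance instFiniteCo0 : Finite Co0 := Nat.finite_of_card_ne_zero (by rw [card_Co0]; norm_num)

theorem index_stabilizer32 {v : leechLattice} (hv : sqNorm (v : GolayPt → ℤ) = 32) :
    (MulAction.stabilizer Co0 v).index = 196560 := by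
  rw [index_stabilizer_norm v hv Orbits.transitive32, count_norm32]

theorem index_stabilizer48 {v : leechLattice} (hv : sqNorm (v : GolayPt → ℤ) = 48) :
    (MulAction.stabilizer Co0 v).index = 16773120 := by
  rw [index_stabilizer_norm v hv Orbits.transitive48, count_norm48]

theorem negEl_comm (g : Co0) : g * negEl = negEl * g := by
  refine Subtype.ext (Equiv.ext fun v => ?_)
  show g • (negEl • v) = negEl • (g • v)
  rw [negEl_smul, negEl_smul, smul_neg']

theorem negEl_ne_one : negEl ≠ 1 := by
  intro h
  have := congrArg (fun g : Co0 => ((g • eightVec none : leechLattice) : GolayPt → ℤ) none) h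
  simp [coe_negEl_smul, coe_eightVec] at this

theorem exists_code_separating {i j : GolayPt} (h : j ≠ i) :
    ∃ c ∈ golayCode, c i = 0 ∧ c j = 1 := by
  obtain ⟨o, ho, hjo⟩ := Golay.exists_octad (s := {j}) (by simp)
  have hjo' : j ∈ o := hjo (Finset.mem_singleton_self j)
  obtain ⟨x, hx⟩ : ∃ x, x ∉ o := by
    by_contra hall
    push Not at hall
    have h8 : o.card = 8 := ho.2
    rw [Finset.eq_univ_of_forall hall, Finset.card_univ] at h8
    simp at h8
  have hne : j ≠ x := fun e => hx (e ▸ hjo')
  obtain ⟨g, hg, hmap⟩ := Golay.exists_map_M24 (xs := [j, x]) (ys := [j, i])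
    (by simp [hne]) (by simp [h]) (by simp) (by simp)
  simp only [List.map_cons, List.map_nil, List.cons.injEq, and_true] at hmap
  obtain ⟨w, hw, hwo⟩ := (Golay.M24_smul_mem_supports hg).2 ho.1
  refine ⟨w, hw, ?_, ?_⟩
  · by_contra hne'
    have : i ∈ g • o := by rw [← hwo]; simp [support₂, hne']
    rw [← hmap.2, ← Equiv.Perm.smul_def, Finset.smul_mem_smul_finset_iff] at this
    exact hx this
  · rcases zmod_two_cases (w j) with e | e
    · have : j ∈ g • o := by
        rw [← hmap.1, ← Equiv.Perm.smul_def, Finset.smul_mem_smul_finset_iff]; exact hjo'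
      rw [← hwo] at this; simp [support₂, e] at this
    · exact e

/-- An automorphism commuting with all sign changes fixes each axis up to sign. -/
theorem eigen_eightVec {g : Co0}
    (hcomm : ∀ (c : GolayPt → ZMod 2) (hc : c ∈ golayCode),
      g * monoEl 1 (one_mem _) c hc = monoEl 1 (one_mem _) c hc * g) (i : GolayPt) :
    g • eightVec i = eightVec i ∨ g • eightVec i = -eightVec i := by
  have hz : ∀ j, j ≠ i → ((g • eightVec i : leechLattice) : GolayPt → ℤ) j = 0 := by
    intro j hj
    obtain ⟨c, hc, hci, hcj⟩ := exists_code_separating hj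
    have h1 : monoEl 1 (one_mem _) c hc • eightVec i = eightVec i := by
      refine Subtype.ext ?_
      rw [coe_monoEl_smul, coe_eightVec, monoFun_single]; simp [hci]
    have h2 := congrArg (fun v : leechLattice => (v : GolayPt → ℤ) j)
      (congrArg (fun h : Co0 => h • eightVec i) (hcomm c hc))
    simp only [mul_smul, h1, coe_monoEl_smul, monoFun, Equiv.Perm.one_apply, hcj, if_true] at h2
    omega
  have hn := (sqNorm_smul g (eightVec i)).trans (sqNorm_eightVec i)
  rw [sqNorm, Finset.sum_eq_single i (fun j _ hj => by rw [hz j hj]; rfl) (fun h => absurd (Finset.mem_univ i) h)] at hn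
  have h8 : ((g • eightVec i : leechLattice) : GolayPt → ℤ) i = 8 ∨
      ((g • eightVec i : leechLattice) : GolayPt → ℤ) i = -8 :=
    sq_eq_sq_iff_eq_or_eq_neg.1 (hn.trans (by norm_num))
  rcases h8 with h | h
  · refine Or.inl (Subtype.ext (funext fun j => ?_))
    by_cases hj : j = i
    · subst hj; simp [h, coe_eightVec]
    · rw [hz j hj]; simp [coe_eightVec, hj]
  · refine Or.inr (Subtype.ext (funext fun j => ?_))
    by_cases hj : j = i
    · subst hj; simp [h, coe_eightVec]
    · rw [hz j hj]; simp [coe_eightVec, hj]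

theorem center_eq : (Subgroup.center Co0 : Set Co0) = {1, negEl} := by
  ext g
  simp only [SetLike.mem_coe, Subgroup.mem_center_iff, Set.mem_insert_iff, Set.mem_singleton_iff]
  constructor
  · intro hg
    have he := eigen_eightVec (g := g) fun c hc => (hg _).symm
    have hmove : ∀ i, g • eightVec i = eightVec i → g • eightVec none = eightVec none := by
      intro i hi
      obtain ⟨τ, hτ, hmap⟩ := Golay.exists_map_M24 (xs := [i]) (ys := [none]) (by simp) (by simp)
        (by simp) (by simp)
      simp only [List.map_cons, List.map_nil, List.cons.injEq, and_true] at hmap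
      have h1 : monoEl τ⁻¹ (inv_mem hτ) 0 (zero_mem _) • eightVec i = eightVec none := by
        refine Subtype.ext ?_
        rw [coe_monoEl_smul, coe_eightVec, monoFun_single, inv_inv, hmap]; simp [coe_eightVec]
      have hg' : g * monoEl τ⁻¹ (inv_mem hτ) 0 (zero_mem _) =
          monoEl τ⁻¹ (inv_mem hτ) 0 (zero_mem _) * g := (hg _).symm
      rw [← h1, ← mul_smul, hg', mul_smul, hi]
    by_cases h0 : ∃ i, g • eightVec i = eightVec i
    · obtain ⟨i, hi⟩ := h0
      have hn := hmove i hi
      left
      refine ext_eightVec fun j => ?_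
      rw [one_smul]
      rcases he j with h | h
      · exact h
      · exfalso
        obtain ⟨τ, hτ, hmap⟩ := Golay.exists_map_M24 (xs := [j]) (ys := [none]) (by simp) (by simp)
          (by simp) (by simp)
        simp only [List.map_cons, List.map_nil, List.cons.injEq, and_true] at hmap
        have h1 : monoEl τ⁻¹ (inv_mem hτ) 0 (zero_mem _) • eightVec j = eightVec none := by
          refine Subtype.ext ?_
          rw [coe_monoEl_smul, coe_eightVec, monoFun_single, inv_inv, hmap]; simp [coe_eightVec]
        have hg' : g * monoEl τ⁻¹ (inv_mem hτ) 0 (zero_mem _) =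
            monoEl τ⁻¹ (inv_mem hτ) 0 (zero_mem _) * g := (hg _).symm
        have h3 : g • eightVec none = -eightVec none := by
          rw [← h1, ← mul_smul, hg', mul_smul, h, smul_neg', h1]
        rw [hn] at h3
        have := congrArg (fun v : leechLattice => (v : GolayPt → ℤ) none) h3
        simp [coe_eightVec] at this
    · right
      refine ext_eightVec fun j => ?_
      rcases he j with h | h
      · exact absurd ⟨j, h⟩ h0
      · rw [h, negEl_smul]
  · rintro (rfl | rfl)
    · intro h; simp
    · exact negEl_comm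

theorem card_center : Nat.card (Subgroup.center Co0) = 2 := by
  show Nat.card ↥(Subgroup.center Co0 : Set Co0) = 2
  rw [center_eq, Nat.card_coe_set_eq, Set.ncard_pair negEl_ne_one.symm]

end CfsgLib.Leech
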