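import Cfsg.Agent.Lib.Leech.Check

/-! Generators of the Leech lattice, and Conway's extra isometry attached to a sextet. -/

set_option autoImplicit false

namespace CfsgLib.Leech

open Cfsg

/-- The spanning vectors, numbered: twice the basis words, one odd vector, and the vectors with two
coordinates of absolute value 4. -/
def leechGen (k : ℕ) : GolayPt → ℤ :=
  if k < 12 then fun p => if (CfsgLib.Golay.basis.getD k 0).testBit (CfsgLib.Golay.bit p) then 2 else 0
  else if k = 12 then fun p => if p = none then -3 else 1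
  else if k < 36 then fun p => if p = none then 4 else if CfsgLib.Golay.bit p = k - 13 then 4 else 0
  else fun p => if p = none then -4 else if CfsgLib.Golay.bit p = k - 36 then 4 else 0

theorem leechB_leechGen : ((List.range 59).all fun k => leechB (leechGen k)) = true := by
  decide +kernel

theorem leechGen_mem {k : ℕ} (hk : k < 59) : leechGen k ∈ leechLattice :=
  mem_of_leechB (List.all_eq_true.1 leechB_leechGen k (List.mem_range.2 hk))

/-- The subgroup spanned by the generators. -/
def genSub : AddSubgroup (GolayPt → ℤ) := AddSubgroup.closure {x | ∃ k < 59, x = leechGen k}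

theorem leechGen_mem_genSub {k : ℕ} (hk : k < 59) : leechGen k ∈ genSub :=
  AddSubgroup.subset_closure ⟨k, hk, rfl⟩

theorem genSub_le : genSub ≤ leechLattice := by
  refine (AddSubgroup.closure_le _).2 ?_
  rintro x ⟨k, hk, rfl⟩
  exact leechGen_mem hk

/-- The bit words of the even vectors in the generated subgroup. -/
def evenBits : Submodule (ZMod 2) (GolayPt → ZMod 2) where
  carrier := {w | ∃ h ∈ genSub, (∀ i, h i % 2 = 0) ∧ bits h = w}
  zero_mem' := ⟨0, genSub.zero_mem, fun _ => rfl, funext fun i => by simp [bits, bit]⟩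
  add_mem' := by
    rintro _ _ ⟨a, ha, ha2, rfl⟩ ⟨b, hb, hb2, rfl⟩
    refine ⟨a + b, genSub.add_mem ha hb, fun i => ?_, funext fun i => ?_⟩
    · have := ha2 i; have := hb2 i; simp only [Pi.add_apply]; omega
    · simp only [bits, Pi.add_apply, bit_add, ha2 i, zero_mul, Int.cast_zero, add_zero]
  smul_mem' := by
    rintro c _ ⟨a, ha, ha2, rfl⟩
    rcases zmod_two_cases c with rfl | rfl
    · exact ⟨0, genSub.zero_mem, fun i => rfl, funext fun i => by simp [bits, bit]⟩
    · exact ⟨a, ha, ha2, (one_smul _ _).symm⟩

theorem exists_even_mem_genSub {w : GolayPt → ZMod 2} (hw : w ∈ golayCode) :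
    ∃ h ∈ genSub, (∀ i, h i % 2 = 0) ∧ bits h = w := by
  obtain ⟨x, -, rfl⟩ := CfsgLib.Golay.mem_golay_iff.1 hw
  refine CfsgLib.Golay.toWord_comb_mem_of (M := evenBits) (fun b hb => ?_) x
  obtain ⟨k, hk, rfl⟩ := List.getElem_of_mem hb
  have hk' : k < 12 := hk
  refine ⟨leechGen k, leechGen_mem_genSub (by omega), fun i => ?_, funext fun i => ?_⟩
  · simp only [leechGen, if_pos hk']; split <;> rfl
  · simp only [bits, leechGen, if_pos hk', CfsgLib.Golay.toWord, List.getD_eq_getElem _ _ hk]
    split <;> rfl

theorem genSub_eq : genSub = leechLattice := by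
  refine le_antisymm genSub_le fun x hx => ?_
  -- make the parity even
  obtain ⟨a, ha, ha2⟩ : ∃ a ∈ genSub, ∀ i, (x - a) i % 2 = 0 := by
    obtain ⟨hp, -, -⟩ := mem_leech_iff.1 hx
    rcases Int.emod_two_eq_zero_or_one (x none) with h | h
    · exact ⟨0, genSub.zero_mem, fun i => by simp [hp i, h]⟩
    · refine ⟨leechGen 12, leechGen_mem_genSub (by norm_num), fun i => ?_⟩
      have := hp i
      simp only [Pi.sub_apply, leechGen]
      rw [if_neg (by norm_num), if_pos trivial]
      split <;> omega
  set y := x - a with hy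
  have hyL : y ∈ leechLattice := sub_mem hx (genSub_le ha)
  obtain ⟨b, hb, hb2, hbb⟩ := exists_even_mem_genSub (mem_leech_iff.1 hyL).2.1
  set z := y - b with hz
  have hzL : z ∈ leechLattice := sub_mem hyL (genSub_le hb)
  have hz4 : ∀ i, z i % 4 = 0 := by
    intro i
    have h1 := ha2 i; have h2 := hb2 i
    have h3 : bit (y i) = bit (b i) := (congrFun hbb i).symm
    have h4 : (y i / 2) % 2 = (b i / 2) % 2 := by
      have h5 := (ZMod.intCast_eq_intCast_iff' _ _ 2).1 h3
      push_cast at h5; exact h5
    simp only [hz, Pi.sub_apply]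
    omega
  -- a multiple of four with even total
  have hs := (mem_leech_iff.1 hzL).2.2
  have hzz : z ∈ genSub := by
    obtain ⟨w, hw⟩ : ∃ w : GolayPt → ℤ, ∀ i, z i = 4 * w i :=
      ⟨fun i => z i / 4, fun i => by have := hz4 i; show z i = 4 * (z i / 4); omega⟩
    have hev : (∑ i, w i) % 2 = 0 := by
      have h := hw none
      simp only [hw, ← Finset.mul_sum] at hs
      omega
    obtain ⟨m, hm⟩ : ∃ m, (∑ i, w i) = 2 * m := ⟨(∑ i, w i) / 2, by omega⟩
    have hrep : z = (∑ t : ZMod 23, w (some t) • leechGen (13 + t.val)) +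
        (w none - m) • (leechGen 13 - leechGen 36) := by
      funext p
      simp only [Pi.add_apply, Finset.sum_apply, Pi.smul_apply, Pi.sub_apply, smul_eq_mul]
      have hg : ∀ t : ZMod 23, leechGen (13 + t.val) p =
          (if p = none then 4 else if p = some t then 4 else 0) := by
        revert p; decide +kernel
      simp only [hg]
      cases p with
      | none =>
        simp only [if_pos, ← Finset.sum_mul, leechGen]
        rw [hw none]
        rw [Fintype.sum_option] at hm
        norm_num
        linarith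
      | some q =>
        simp only [reduceCtorEq, if_false, Option.some.injEq, mul_ite, mul_zero,
          Finset.sum_ite_eq, Finset.mem_univ, if_true]
        have h0 : leechGen 13 (some q) - leechGen 36 (some q) = 0 := by
          revert q; decide +kernel
        rw [h0, hw]; ring
    rw [hrep]
    refine genSub.add_mem (genSub.sum_mem fun t _ => genSub.zsmul_mem (leechGen_mem_genSub ?_) _)
      (genSub.zsmul_mem (genSub.sub_mem (leechGen_mem_genSub (by norm_num))
        (leechGen_mem_genSub (by norm_num))) _)
    have := ZMod.val_lt t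
    omega
  have : x = a + (b + z) := by simp [hz, hy]
  rw [this]
  exact genSub.add_mem ha (genSub.add_mem hb hzz)

/-- An additive map sends the lattice into itself as soon as it sends the generators into it. -/
theorem mapsTo_of_gens {f : (GolayPt → ℤ) → (GolayPt → ℤ)}
    (hadd : ∀ x ∈ leechLattice, ∀ y ∈ leechLattice, f (x + y) = f x + f y)
    (hgen : ∀ k < 59, f (leechGen k) ∈ leechLattice) {x : GolayPt → ℤ} (hx : x ∈ leechLattice) :
    f x ∈ leechLattice := by
  have h0 : f 0 = 0 := by
    have h := hadd 0 (zero_mem _) 0 (zero_mem _)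
    simpa using h
  suffices x ∈ leechLattice ∧ f x ∈ leechLattice from this.2
  rw [← genSub_eq] at hx
  induction hx using AddSubgroup.closure_induction with
  | mem y hy => obtain ⟨k, hk, rfl⟩ := hy; exact ⟨leechGen_mem hk, hgen k hk⟩
  | zero => exact ⟨zero_mem _, by rw [h0]; exact zero_mem _⟩
  | add a b _ _ ha hb => exact ⟨add_mem ha.1 hb.1, hadd a ha.1 b hb.1 ▸ add_mem ha.2 hb.2⟩
  | neg a _ ha =>
    refine ⟨neg_mem ha.1, ?_⟩
    have h := hadd a ha.1 (-a) (neg_mem ha.1)
    rw [add_neg_cancel, h0] at h
    rw [show f (-a) = -f a from eq_neg_of_add_eq_zero_right h.symm]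
    exact neg_mem ha.2

/-- Sextet labels of the points. -/
def sextetLab (p : GolayPt) : ℕ := ([0, 0, 0, 4, 3, 4, 5, 5, 1, 2, 2, 1, 1, 3, 4, 2, 3, 4, 1, 5, 2, 5, 3, 0] : List ℕ).getD (CfsgLib.Golay.bit p) 0

/-- The sum of a vector over the tetrad of a point. -/
def tetradSum (x : GolayPt → ℤ) (p : GolayPt) : ℤ :=
  ∑ q ∈ Finset.univ.filter (fun q => sextetLab q = sextetLab p), x q

/-- Conway's isometry attached to the sextet. -/
def xiFun (x : GolayPt → ℤ) : GolayPt → ℤ := fun p =>
  if sextetLab p = 0 then -(x p - tetradSum x p / 2) else x p - tetradSum x p / 2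

theorem tetradSum_add (x y : GolayPt → ℤ) (p : GolayPt) :
    tetradSum (x + y) p = tetradSum x p + tetradSum y p := Finset.sum_add_distrib

theorem tetrad_card : ∀ p : GolayPt,
    (Finset.univ.filter (fun q => sextetLab q = sextetLab p)).card = 4 := by decide +kernel

theorem tetradSum_even {x : GolayPt → ℤ} (hx : x ∈ leechLattice) (p : GolayPt) :
    tetradSum x p % 2 = 0 := by
  have hp := (mem_leech_iff.1 hx).1
  rw [tetradSum, Finset.sum_int_mod, Finset.sum_congr rfl (fun q _ => hp q), Finset.sum_const,
    tetrad_card, nsmul_eq_mul]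
  omega

theorem xiFun_add {x y : GolayPt → ℤ} (hx : x ∈ leechLattice) (hy : y ∈ leechLattice) :
    xiFun (x + y) = xiFun x + xiFun y := by
  funext p
  have := tetradSum_even hx p; have := tetradSum_even hy p
  simp only [xiFun, Pi.add_apply, tetradSum_add]
  split <;> omega

theorem leechB_xiFun_gen : ((List.range 59).all fun k => leechB (xiFun (leechGen k))) = true := by
  decide +kernel

theorem xiFun_mem {x : GolayPt → ℤ} (hx : x ∈ leechLattice) : xiFun x ∈ leechLattice := by
  refine mapsTo_of_gens (fun a ha b hb => xiFun_add ha hb) (fun k hk => ?_) hx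
  exact mem_of_leechB (List.all_eq_true.1 leechB_xiFun_gen k (List.mem_range.2 hk))

end CfsgLib.Leech
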