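import Cfsg.Agent.Lib.Leech.Basic
import Cfsg.Agent.Lib.Golay.Octads

/-! Norms of lattice vectors and sign changes on code words. -/

set_option autoImplicit false

namespace CfsgLib.Leech

open Cfsg CfsgLib

theorem hammingNorm_eq_sum_val (c : GolayPt → ZMod 2) : hammingNorm c = ∑ i, (c i).val := by
  rw [hammingNorm, Finset.card_filter]
  refine Finset.sum_congr rfl fun i _ => ?_
  generalize c i = a; revert a; decide

theorem sum_bit_emod_four {x : GolayPt → ℤ} (hb : bits x ∈ golayCode) :
    (∑ i, x i / 2 % 2) % 4 = 0 := by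
  have h : (∑ i, x i / 2 % 2) = ((hammingNorm (bits x) : ℕ) : ℤ) := by
    rw [hammingNorm_eq_sum_val, Nat.cast_sum]
    refine Finset.sum_congr rfl fun i _ => ?_
    simp only [bits, bit]
    rcases zmod_cast_even_or_odd (x i / 2) with ⟨h, h'⟩ | ⟨h, h'⟩ <;> rw [h', h] <;> rfl
  rw [h]
  rcases Golay.weight_cases hb with e | e | e | e | e <;> rw [e] <;> rfl

theorem sum_card_const (a : ℤ) : ∑ _i : GolayPt, a = 24 * a := by
  rw [Finset.sum_const]; simp

theorem leech_sum_eq {x : GolayPt → ℤ} (hx : IsLeech x) :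
    ∑ i, x i = 4 * (∑ i, x i / 4) + 2 * (∑ i, x i / 2 % 2) + 24 * (x none % 2) := by
  rw [← sum_card_const, Finset.mul_sum, Finset.mul_sum, ← Finset.sum_add_distrib,
    ← Finset.sum_add_distrib]
  refine Finset.sum_congr rfl fun i _ => ?_
  rw [← hx.1 i]; omega

theorem leech_even {x : GolayPt → ℤ} (hx : x ∈ leechLattice) : (16 : ℤ) ∣ sqNorm x := by
  rw [mem_leech_iff] at hx
  have hb := sum_bit_emod_four hx.2.1
  have hs := leech_sum_eq hx
  have h8 := hx.2.2
  have hterm : ∀ i, ∃ q, x i ^ 2 = 16 * q + 4 * (x i / 2 % 2) * (1 + x none % 2) +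
      8 * (x none % 2) * (x i / 4) + x none % 2 := by
    intro i
    have hxi : x i = 4 * (x i / 4) + 2 * (x i / 2 % 2) + x none % 2 := by
      rw [← hx.1 i]; omega
    generalize x i / 4 = k at hxi ⊢
    rcases Int.emod_two_eq_zero_or_one (x i / 2) with h | h <;> rw [h] at hxi ⊢ <;>
      rcases Int.emod_two_eq_zero_or_one (x none) with h' | h' <;> rw [h'] at hxi ⊢ <;>
      rw [hxi]
    · exact ⟨k ^ 2, by ring⟩
    · exact ⟨k ^ 2, by ring⟩
    · exact ⟨k ^ 2 + k, by ring⟩
    · exact ⟨k ^ 2 + k, by ring⟩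
  choose q hq using hterm
  have htot : sqNorm x = 16 * (∑ i, q i) + 4 * (∑ i, x i / 2 % 2) * (1 + x none % 2) +
      8 * (x none % 2) * (∑ i, x i / 4) + 24 * (x none % 2) := by
    rw [← sum_card_const, sqNorm, Finset.mul_sum, Finset.mul_sum, Finset.sum_mul, Finset.mul_sum,
      ← Finset.sum_add_distrib, ← Finset.sum_add_distrib, ← Finset.sum_add_distrib]
    exact Finset.sum_congr rfl fun i _ => hq i
  rcases Int.emod_two_eq_zero_or_one (x none) with h | h <;> rw [h] at htot hs <;>
    rw [htot] <;> omega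

theorem leech_min_norm {x : GolayPt → ℤ} (hx : x ∈ leechLattice) (h0 : x ≠ 0) :
    32 ≤ sqNorm x := by
  have h16 := leech_even hx
  rw [mem_leech_iff] at hx
  by_contra hlt
  have hnn : 0 ≤ sqNorm x := Finset.sum_nonneg fun i _ => sq_nonneg _
  have hne : sqNorm x ≠ 0 := by
    intro h
    apply h0
    funext i
    have := (Finset.sum_eq_zero_iff_of_nonneg (fun i _ => sq_nonneg (x i))).1 h i (Finset.mem_univ _)
    exact pow_eq_zero_iff two_ne_zero |>.1 this
  have hN : sqNorm x = 16 := by omega
  have hp : x none % 2 = 0 := by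
    rcases Int.emod_two_eq_zero_or_one (x none) with h | h
    · exact h
    · have : ∑ _i : GolayPt, (1 : ℤ) ≤ sqNorm x := by
        refine Finset.sum_le_sum fun i _ => ?_
        have := hx.1 i
        have h' : x i ≠ 0 := by omega
        have := sq_pos_of_ne_zero h'
        omega
      rw [sum_card_const] at this; omega
  have hle : 4 * (∑ i, x i / 2 % 2) ≤ sqNorm x := by
    rw [Finset.mul_sum]
    refine Finset.sum_le_sum fun i _ => ?_
    have h := hx.1 i
    rcases Int.emod_two_eq_zero_or_one (x i / 2) with h' | h' <;> rw [h']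
    · simpa using sq_nonneg (x i)
    · have : x i ≤ -2 ∨ 2 ≤ x i := by omega
      rcases this with h'' | h'' <;> nlinarith
  have hbits : bits x = 0 := by
    rw [← hammingNorm_eq_zero]
    have h : ((hammingNorm (bits x) : ℕ) : ℤ) = ∑ i, x i / 2 % 2 := by
      rw [hammingNorm_eq_sum_val, Nat.cast_sum]
      refine Finset.sum_congr rfl fun i _ => ?_
      simp only [bits, bit]
      rcases zmod_cast_even_or_odd (x i / 2) with ⟨h, h'⟩ | ⟨h, h'⟩ <;> rw [h', h] <;> rfl
    rcases Golay.weight_cases hx.2.1 with e | e | e | e | e <;> omega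
  obtain ⟨z, rfl⟩ : ∃ z : GolayPt → ℤ, x = fun i => 4 * z i := by
    refine ⟨fun i => x i / 4, funext fun i => ?_⟩
    have h1 := congrFun hbits i
    have h2 := hx.1 i
    simp only [bits, bit, Pi.zero_apply] at h1
    rw [ZMod.intCast_zmod_eq_zero_iff_dvd] at h1
    push_cast at h1
    show x i = 4 * (x i / 4)
    omega
  have h1 : ∑ i, z i ^ 2 = 1 := by
    simp only [sqNorm, mul_pow, ← Finset.mul_sum] at hN
    omega
  have h2 : (∑ i, z i) % 2 = 1 := by
    rw [Finset.sum_int_mod]
    have hsq : ∀ i, z i % 2 = z i ^ 2 % 2 := fun i => by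
      rw [pow_two, Int.mul_emod]
      rcases Int.emod_two_eq_zero_or_one (z i) with h | h <;> rw [h] <;> rfl
    simp only [hsq, ← Finset.sum_int_mod, h1]
    rfl
  have h8 := hx.2.2
  simp only [← Finset.mul_sum] at h8 hp
  have := hx.1 none
  omega

theorem bit_neg (a : ℤ) : bit (-a) = bit a + ((a % 2 : ℤ) : ZMod 2) := by
  unfold bit
  have e : -a / 2 = -(a / 2) - a % 2 := by
    rcases Int.emod_two_eq_zero_or_one a with h | h <;> omega
  rw [e]; push_cast
  rw [ZMod.neg_eq_self_mod_two, sub_eq_add_neg, ZMod.neg_eq_self_mod_two]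

theorem isLeech_signChange {x : GolayPt → ℤ} {c : GolayPt → ZMod 2}
    (hx : IsLeech x) (hc : c ∈ golayCode) :
    IsLeech (fun i => if c i = 1 then -x i else x i) := by
  have hpar : ∀ i, (if c i = 1 then -x i else x i) % 2 = x none % 2 := by
    intro i; have := hx.1 i; split <;> omega
  refine ⟨fun i => (hpar i).trans (hpar none).symm, ?_, ?_⟩
  · have : bits (fun i => if c i = 1 then -x i else x i) =
        bits x + ((x none % 2 : ℤ) : ZMod 2) • c := by
      funext i
      simp only [bits, Pi.add_apply, Pi.smul_apply, smul_eq_mul]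
      rcases zmod_two_cases (c i) with h | h <;> rw [h]
      · simp
      · rw [if_pos rfl, bit_neg, hx.1 i, mul_one]
    rw [this]
    exact golayCode.add_mem hx.2.1 (golayCode.smul_mem _ hc)
  · have hsum : ∑ i, (if c i = 1 then -x i else x i) =
        ∑ i, x i - 2 * ∑ i, ((c i).val : ℤ) * x i := by
      rw [Finset.mul_sum, ← Finset.sum_sub_distrib]
      refine Finset.sum_congr rfl fun i _ => ?_
      rcases zmod_two_cases (c i) with h | h <;> rw [h]
      · simp
      · simp [ZMod.val_one]; ring
    have h4 : (∑ i, ((c i).val : ℤ) * x i) % 4 = 0 := by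
      have hterm : ∀ i, (((c i).val : ℤ) * x i) % 4 =
          ((x none % 2) * (c i).val + 2 * ((c i * bits x i).val : ℤ)) % 4 := by
        intro i
        have := hx.1 i
        simp only [bits, bit]
        rcases zmod_two_cases (c i) with h | h <;> rw [h]
        · simp
        · rcases zmod_cast_even_or_odd (x i / 2) with ⟨hu, hu'⟩ | ⟨hu, hu'⟩ <;> rw [hu'] <;>
            simp [ZMod.val_one] <;> omega
      rw [Finset.sum_int_mod, Finset.sum_congr rfl (fun i _ => hterm i), ← Finset.sum_int_mod,
        Finset.sum_add_distrib, ← Finset.mul_sum, ← Finset.mul_sum, ← Nat.cast_sum, ← Nat.cast_sum]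
      have h1 : ((∑ i, (c i).val : ℕ) : ℤ) % 4 = 0 := by
        rw [← hammingNorm_eq_sum_val]
        rcases Golay.weight_cases hc with e | e | e | e | e <;> rw [e] <;> rfl
      have h2 : (∑ i, (c i * bits x i).val) % 2 = 0 := by
        have h := Golay.self_orthogonal hc hx.2.1
        have h' : ((∑ i, (c i * bits x i).val : ℕ) : ZMod 2) = 0 := by
          rw [Nat.cast_sum]; simpa using h
        rw [ZMod.natCast_eq_zero_iff_even] at h'
        exact Nat.even_iff.1 h'
      rcases Int.emod_two_eq_zero_or_one (x none) with h | h <;> rw [h] <;> omega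
    rw [hsum]
    have := hx.2.2; have := hpar none
    show _ % 8 = 4 * (if c none = 1 then -x none else x none) % 8
    omega

end CfsgLib.Leech
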