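import Cfsg.Agent.Lib.Leech.Gens
import Cfsg.Agent.Lib.Leech.Norm

/-! Elements of the automorphism group of the lattice. -/

set_option autoImplicit false

namespace CfsgLib.Leech

open Cfsg CfsgLib
open scoped Pointwise

variable {x y z : GolayPt → ℤ}

theorem coe_smul_add (g : Co0) (v w : leechLattice) :
    ((g • (v + w) : leechLattice) : GolayPt → ℤ) =
      ((g • v : leechLattice) : GolayPt → ℤ) + ((g • w : leechLattice) : GolayPt → ℤ) := by
  show ((g.1 (v + w) : leechLattice) : GolayPt → ℤ) = _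
  rw [g.2.1 v w]; rfl

theorem smul_add' (g : Co0) (v w : leechLattice) : g • (v + w) = g • v + g • w := g.2.1 v w

/-- The additive endomorphism given by an element. -/
def toAddHom (g : Co0) : leechLattice →+ leechLattice :=
  AddMonoidHom.mk' (fun v => g • v) (smul_add' g)

theorem smul_zero' (g : Co0) : g • (0 : leechLattice) = 0 := (toAddHom g).map_zero
theorem smul_neg' (g : Co0) (v : leechLattice) : g • (-v) = -(g • v) := (toAddHom g).map_neg v
theorem smul_zsmul' (g : Co0) (n : ℤ) (v : leechLattice) : g • (n • v) = n • (g • v) :=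
  (toAddHom g).map_zsmul n v
theorem smul_sum' {ι : Type*} (g : Co0) (s : Finset ι) (f : ι → leechLattice) :
    g • (∑ i ∈ s, f i) = ∑ i ∈ s, g • f i :=
  map_sum (toAddHom g) f s

theorem sqNorm_smul (g : Co0) (v : leechLattice) :
    sqNorm ((g • v : leechLattice) : GolayPt → ℤ) = sqNorm (v : GolayPt → ℤ) := g.2.2 v

theorem sqNorm_add (x y : GolayPt → ℤ) : sqNorm (x + y) = sqNorm x + 2 * dotInt x y + sqNorm y := by
  simp only [sqNorm, dotInt, Pi.add_apply, Finset.mul_sum, ← Finset.sum_add_distrib]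
  exact Finset.sum_congr rfl fun i _ => by ring

theorem sqNorm_neg (x : GolayPt → ℤ) : sqNorm (-x) = sqNorm x := by simp [sqNorm]

theorem dotInt_smul (g : Co0) (v w : leechLattice) :
    dotInt ((g • v : leechLattice) : GolayPt → ℤ) ((g • w : leechLattice) : GolayPt → ℤ) =
      dotInt (v : GolayPt → ℤ) (w : GolayPt → ℤ) := by
  have h := sqNorm_smul g (v + w)
  rw [coe_smul_add, AddSubgroup.coe_add, sqNorm_add, sqNorm_add, sqNorm_smul, sqNorm_smul] at h
  omega

/-- An element from a pair of inverse maps. -/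
def mkCo0 (f f' : (GolayPt → ℤ) → (GolayPt → ℤ))
    (hf : ∀ x ∈ leechLattice, f x ∈ leechLattice) (hf' : ∀ x ∈ leechLattice, f' x ∈ leechLattice)
    (hl : ∀ x ∈ leechLattice, f' (f x) = x) (hr : ∀ x ∈ leechLattice, f (f' x) = x)
    (hadd : ∀ x ∈ leechLattice, ∀ y ∈ leechLattice, f (x + y) = f x + f y)
    (hnorm : ∀ x ∈ leechLattice, sqNorm (f x) = sqNorm x) : Co0 :=
  ⟨⟨fun v => ⟨f v, hf v v.2⟩, fun v => ⟨f' v, hf' v v.2⟩,
      fun v => Subtype.ext (hl v v.2), fun v => Subtype.ext (hr v v.2)⟩,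
    fun v w => Subtype.ext (hadd v v.2 w w.2), fun v => hnorm v v.2⟩

theorem coe_mkCo0_smul {f f' : (GolayPt → ℤ) → (GolayPt → ℤ)} {hf hf' hl hr hadd hnorm}
    (v : leechLattice) :
    ((mkCo0 f f' hf hf' hl hr hadd hnorm • v : leechLattice) : GolayPt → ℤ) = f v := rfl

/-- The signed coordinate map: permute by `τ`, then change signs on the support of `c`. -/
def monoFun (τ : Equiv.Perm GolayPt) (c : GolayPt → ZMod 2) (x : GolayPt → ℤ) : GolayPt → ℤ :=
  fun i => if c i = 1 then -x (τ i) else x (τ i)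

theorem monoFun_mem {τ : Equiv.Perm GolayPt} (hτ : τ ∈ M24) {c : GolayPt → ZMod 2}
    (hc : c ∈ golayCode) (hx : x ∈ leechLattice) : monoFun τ c x ∈ leechLattice := by
  rw [mem_leech_iff] at hx ⊢
  exact isLeech_signChange (isLeech_comp hτ hx) hc

/-- The signed coordinate map as an automorphism of the lattice. -/
def monoEl (τ : Equiv.Perm GolayPt) (hτ : τ ∈ M24) (c : GolayPt → ZMod 2) (hc : c ∈ golayCode) :
    Co0 :=
  mkCo0 (monoFun τ c) (monoFun τ⁻¹ (c ∘ ⇑τ⁻¹)) (fun _ hx => monoFun_mem hτ hc hx)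
    (fun _ hx => monoFun_mem (inv_mem hτ) (mem_supports_comp (inv_mem hτ) hc) hx)
    (fun x _ => by
      funext i
      simp only [monoFun, Function.comp_apply, Equiv.Perm.coe_inv, Equiv.apply_symm_apply]
      split <;> simp)
    (fun x _ => by
      funext i
      simp only [monoFun, Function.comp_apply, Equiv.Perm.coe_inv, Equiv.symm_apply_apply]
      split <;> simp)
    (fun x _ y _ => by funext i; simp only [monoFun, Pi.add_apply]; split <;> ring)
    (fun x _ => by
      show ∑ i, monoFun τ c x i ^ 2 = ∑ i, x i ^ 2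
      rw [← Equiv.sum_comp τ (fun i => x i ^ 2)]
      refine Finset.sum_congr rfl fun i _ => ?_
      simp only [monoFun]; split <;> ring)

theorem coe_monoEl_smul {τ : Equiv.Perm GolayPt} {hτ : τ ∈ M24} {c : GolayPt → ZMod 2}
    {hc : c ∈ golayCode} (v : leechLattice) :
    ((monoEl τ hτ c hc • v : leechLattice) : GolayPt → ℤ) = monoFun τ c v := rfl

theorem tetradSum_congr_lab {p q : GolayPt} (h : sextetLab q = sextetLab p) (x : GolayPt → ℤ) :
    tetradSum x q = tetradSum x p := by simp only [tetradSum, h]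

theorem tetradSum_xiFun (hx : x ∈ leechLattice) (p : GolayPt) :
    tetradSum (xiFun x) p = if sextetLab p = 0 then tetradSum x p else -tetradSum x p := by
  have he := tetradSum_even hx p
  have h : tetradSum (xiFun x) p = (if sextetLab p = 0 then (-1 : ℤ) else 1) *
      (tetradSum x p - 4 * (tetradSum x p / 2)) := by
    conv_lhs => unfold tetradSum
    have e : ∀ q ∈ Finset.univ.filter (fun q => sextetLab q = sextetLab p), xiFun x q =
        (if sextetLab p = 0 then (-1 : ℤ) else 1) * (x q - tetradSum x p / 2) := by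
      intro q hq
      rw [Finset.mem_filter_univ] at hq
      simp only [xiFun, tetradSum_congr_lab hq x, hq]
      split <;> ring
    rw [Finset.sum_congr rfl e, ← Finset.mul_sum, Finset.sum_sub_distrib, Finset.sum_const,
      tetrad_card, nsmul_eq_mul]
    rfl
  rw [h]; split <;> omega

theorem xiFun_xiFun (hx : x ∈ leechLattice) : xiFun (xiFun x) = x := by
  funext p
  have he := tetradSum_even hx p
  show (if sextetLab p = 0 then -(xiFun x p - tetradSum (xiFun x) p / 2)
    else xiFun x p - tetradSum (xiFun x) p / 2) = x p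
  rw [tetradSum_xiFun hx]
  simp only [xiFun]
  split <;> omega

theorem sqNorm_xiFun (hx : x ∈ leechLattice) : sqNorm (xiFun x) = sqNorm x := by
  have hmaps : ((Finset.univ : Finset GolayPt) : Set GolayPt).MapsTo sextetLab
      ((Finset.univ : Finset GolayPt).image sextetLab) := fun p _ =>
    Finset.mem_coe.2 (Finset.mem_image_of_mem _ (Finset.mem_univ p))
  unfold sqNorm
  rw [← Finset.sum_fiberwise_of_maps_to hmaps (fun i => xiFun x i ^ 2),
    ← Finset.sum_fiberwise_of_maps_to hmaps (fun i => x i ^ 2)]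
  refine Finset.sum_congr rfl fun l hl => ?_
  obtain ⟨p, -, rfl⟩ := Finset.mem_image.1 hl
  obtain ⟨s, hs⟩ : ∃ s, tetradSum x p = 2 * s :=
    ⟨tetradSum x p / 2, by have := tetradSum_even hx p; omega⟩
  have e : ∀ q ∈ Finset.univ.filter (fun q => sextetLab q = sextetLab p),
      xiFun x q ^ 2 = x q ^ 2 + (s ^ 2 - 2 * s * x q) := by
    intro q hq
    rw [Finset.mem_filter_univ] at hq
    simp only [xiFun, tetradSum_congr_lab hq x, hs, Int.mul_ediv_cancel_left _ two_ne_zero]
    split <;> ring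
  rw [Finset.sum_congr rfl e, Finset.sum_add_distrib, Finset.sum_sub_distrib, Finset.sum_const,
    tetrad_card, ← Finset.mul_sum]
  show _ + (4 • s ^ 2 - 2 * s * tetradSum x p) = _
  rw [hs, nsmul_eq_mul]; push_cast; ring

/-- Conway's extra automorphism. -/
def xiEl : Co0 :=
  mkCo0 xiFun xiFun (fun _ hx => xiFun_mem hx) (fun _ hx => xiFun_mem hx)
    (fun _ hx => xiFun_xiFun hx) (fun _ hx => xiFun_xiFun hx)
    (fun _ hx _ hy => xiFun_add hx hy) (fun _ hx => sqNorm_xiFun hx)

theorem coe_xiEl_smul (v : leechLattice) :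
    ((xiEl • v : leechLattice) : GolayPt → ℤ) = xiFun v := rfl

/-- Negation. -/
def negEl : Co0 :=
  mkCo0 (fun x => -x) (fun x => -x) (fun _ hx => neg_mem hx) (fun _ hx => neg_mem hx)
    (fun x _ => neg_neg x) (fun x _ => neg_neg x) (fun x _ y _ => neg_add x y)
    (fun x _ => sqNorm_neg x)

theorem coe_negEl_smul (v : leechLattice) :
    ((negEl • v : leechLattice) : GolayPt → ℤ) = -(v : GolayPt → ℤ) := rfl

theorem negEl_smul (v : leechLattice) : negEl • v = -v := rfl

theorem sq_negEl : negEl * negEl = 1 := by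
  refine Subtype.ext (Equiv.ext fun v => ?_)
  show negEl • (negEl • v) = v
  rw [negEl_smul, negEl_smul, neg_neg]

/-- Some automorphism carries `x` to `y`. -/
def Reach (x y : GolayPt → ℤ) : Prop :=
  ∃ (hx : x ∈ leechLattice) (g : Co0), ((g • ⟨x, hx⟩ : leechLattice) : GolayPt → ℤ) = y

theorem Reach.refl (hx : x ∈ leechLattice) : Reach x x := ⟨hx, 1, by rw [one_smul]⟩

theorem Reach.mem_left (h : Reach x y) : x ∈ leechLattice := h.1

theorem Reach.mem_right (h : Reach x y) : y ∈ leechLattice := by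
  obtain ⟨hx, g, rfl⟩ := h; exact Subtype.coe_prop _

theorem Reach.symm (h : Reach x y) : Reach y x := by
  obtain ⟨hx, g, rfl⟩ := h
  exact ⟨Subtype.coe_prop _, g⁻¹, by simp [inv_smul_smul]⟩

theorem Reach.trans (h : Reach x y) (h' : Reach y z) : Reach x z := by
  obtain ⟨hx, g, rfl⟩ := h
  obtain ⟨hy, g', rfl⟩ := h'
  exact ⟨hx, g' * g, by rw [mul_smul]⟩

theorem reach_xi (hx : x ∈ leechLattice) : Reach x (xiFun x) := ⟨hx, xiEl, rfl⟩

theorem reach_mono {τ : Equiv.Perm GolayPt} (hτ : τ ∈ M24) {c : GolayPt → ZMod 2}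
    (hc : c ∈ golayCode) (hx : x ∈ leechLattice) : Reach x (monoFun τ c x) :=
  ⟨hx, monoEl τ hτ c hc, rfl⟩

theorem exists_smul_eq_of_reach {v w : leechLattice} (h : Reach (v : GolayPt → ℤ) w) :
    ∃ g : Co0, g • v = w := by
  obtain ⟨hx, g, hg⟩ := h
  exact ⟨g, Subtype.ext hg⟩

end CfsgLib.Leech
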