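import Cfsg.Agent.Lib.Leech.Basic
import Cfsg.Agent.Lib.Golay.Octads

/-! Kernel checks for membership in the lattice and in the group of the code. -/

set_option autoImplicit false

namespace CfsgLib.Leech

open Cfsg CfsgLib
open scoped Pointwise

/-- The mask of the bit word of a vector. -/
def maskOf (x : GolayPt → ℤ) : ℕ := Golay.bitsOf (fun i => x (Golay.pt i) / 2 % 2 == 1) 24

/-- The Boolean membership test. -/
def leechB (x : GolayPt → ℤ) : Bool :=
  (List.range 24).all (fun i => x (Golay.pt i) % 2 == x none % 2) &&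
    Golay.memb (maskOf x) && ((∑ i, x i) % 8 == 4 * x none % 8)

theorem toWord_maskOf (x : GolayPt → ℤ) : Golay.toWord (maskOf x) = bits x := by
  funext p
  simp only [Golay.toWord, maskOf, Golay.testBit_bitsOf, Golay.bit_lt, Golay.pt_bit, decide_true,
    Bool.true_and, beq_iff_eq, bits, bit]
  rcases zmod_cast_even_or_odd (x p / 2) with ⟨h, h'⟩ | ⟨h, h'⟩ <;> rw [h', h] <;> rfl

theorem isLeech_of_leechB {x : GolayPt → ℤ} (h : leechB x = true) : IsLeech x := by
  simp only [leechB, Bool.and_eq_true, List.all_eq_true, List.mem_range, beq_iff_eq] at h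
  refine ⟨fun p => ?_, ?_, h.2⟩
  · have := h.1.1 (Golay.bit p) (Golay.bit_lt p)
    rwa [Golay.pt_bit] at this
  · rw [← toWord_maskOf]
    exact (Golay.toWord_mem_iff (Golay.bitsOf_lt _ _)).2 h.1.2

theorem mem_of_leechB {x : GolayPt → ℤ} (h : leechB x = true) : x ∈ leechLattice :=
  mem_leech_iff.2 (isLeech_of_leechB h)

/-- The Boolean test for a permutation to preserve the code. -/
def m24B (σ : GolayPt → GolayPt) : Bool :=
  Golay.basis.all fun b => Golay.memb (Golay.bitsOf (fun i => b.testBit (Golay.bit (σ (Golay.pt i)))) 24)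

theorem mem_M24_of_m24B (σ : Equiv.Perm GolayPt) (h : m24B σ = true) : σ ∈ M24 := by
  have hb : ∀ b ∈ Golay.basis, Golay.toWord b ∘ σ ∈ golayCode := by
    intro b hb
    have h1 := List.all_eq_true.1 h b hb
    have h2 := (Golay.toWord_mem_iff (Golay.bitsOf_lt _ _)).2 h1
    have e : Golay.toWord (Golay.bitsOf (fun i => b.testBit (Golay.bit (σ (Golay.pt i)))) 24) =
        Golay.toWord b ∘ σ := by
      funext p
      simp only [Golay.toWord, Function.comp_apply, Golay.testBit_bitsOf, Golay.bit_lt, Golay.pt_bit,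
        decide_true, Bool.true_and]
    rw [← e]; exact h2
  let L : (GolayPt → ZMod 2) →ₗ[ZMod 2] (GolayPt → ZMod 2) :=
    { toFun := fun w => w ∘ σ
      map_add' := fun _ _ => rfl
      map_smul' := fun _ _ => rfl }
  have hmem : ∀ w ∈ golayCode, w ∘ σ ∈ golayCode := by
    intro w hw
    obtain ⟨x, hx, rfl⟩ := Golay.mem_golay_iff.1 hw
    exact Submodule.mem_comap.1
      (Golay.toWord_comb_mem_of (M := Submodule.comap L golayCode)
        (fun b h' => Submodule.mem_comap.2 (hb b h')) x)
  set S := supports (golayCode : Set (GolayPt → ZMod 2))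
  have hsub : σ⁻¹ • S ⊆ S := by
    rintro b ⟨a, ⟨w, hw, rfl⟩, rfl⟩
    refine ⟨w ∘ σ, hmem w hw, ?_⟩
    ext i
    rw [Finset.mem_inv_smul_finset_iff]
    simp [support₂]
  have hfin : S.Finite := Set.toFinite _
  have heq : σ⁻¹ • S = S :=
    Set.eq_of_subset_of_ncard_le hsub (by rw [Set.ncard_smul_set]) hfin
  have : σ⁻¹ ∈ M24 := heq
  simpa using inv_mem this

end CfsgLib.Leech
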