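import Cfsg.Prelude.Def_Sporadic_a

set_option autoImplicit false

namespace CfsgLib.Leech

open Cfsg
open scoped Pointwise

/-- The residue pair of an integer modulo 4, second digit. -/
def bit (a : ℤ) : ZMod 2 := ((a / 2 : ℤ) : ZMod 2)

/-- The bit word of an integer vector. -/
def bits {ι : Type*} (x : ι → ℤ) : ι → ZMod 2 := fun i => bit (x i)

theorem bit_add (a b : ℤ) : bit (a + b) = bit a + bit b + ((a % 2 * (b % 2) : ℤ) : ZMod 2) := by
  unfold bit
  have h : (a + b) / 2 = a / 2 + b / 2 + a % 2 * (b % 2) := by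
    rcases Int.emod_two_eq_zero_or_one a with ha | ha <;>
      rcases Int.emod_two_eq_zero_or_one b with hb | hb <;> rw [ha, hb] <;> omega
  rw [h]; push_cast; ring

theorem zmod_two_cases (a : ZMod 2) : a = 0 ∨ a = 1 := by
  revert a; decide

theorem eq_of_support₂_eq {α : Type*} [Fintype α] {v w : α → ZMod 2}
    (h : support₂ v = support₂ w) : v = w := by
  funext i
  have := Finset.ext_iff.1 h i
  simp only [support₂, Finset.mem_filter, Finset.mem_univ, true_and] at this
  rcases zmod_two_cases (v i) with hv | hv <;> rcases zmod_two_cases (w i) with hw | hw <;>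
    simp_all

theorem mem_supports_iff {α : Type*} [Fintype α] (C : Set (α → ZMod 2)) (w : α → ZMod 2) :
    support₂ w ∈ supports C ↔ w ∈ C := by
  constructor
  · rintro ⟨v, hv, he⟩; rwa [← eq_of_support₂_eq he]
  · exact fun h => ⟨w, h, rfl⟩

theorem one_mem_golayCode : (1 : GolayPt → ZMod 2) ∈ golayCode :=
  Submodule.subset_span (Or.inr rfl)

/-- Membership criterion for the Leech lattice. -/
def IsLeech (x : GolayPt → ℤ) : Prop :=
  (∀ i, x i % 2 = x none % 2) ∧ bits x ∈ golayCode ∧ (∑ i, x i) % 8 = 4 * x none % 8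

theorem zmod_cast_even_or_odd (a : ℤ) : (a % 2 = 0 ∧ (a : ZMod 2) = 0) ∨ (a % 2 = 1 ∧ (a : ZMod 2) = 1) := by
  rcases Int.emod_two_eq_zero_or_one a with h | h
  · refine Or.inl ⟨h, ?_⟩
    rw [← Int.emod_add_mul_ediv a 2, h]; push_cast
    rw [show (2 : ZMod 2) = 0 from by decide]; ring
  · refine Or.inr ⟨h, ?_⟩
    rw [← Int.emod_add_mul_ediv a 2, h]; push_cast
    rw [show (2 : ZMod 2) = 0 from by decide]; ring

theorem filter_mod_four_eq (x : GolayPt → ℤ) (hpar : ∀ i, x i % 2 = x none % 2)
    (k : ℤ) (hk : k % 2 = x none % 2) :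
    (Finset.univ.filter fun i => x i ≡ k [ZMOD 4]) =
      support₂ (bits x + (fun _ => bit k + 1)) := by
  ext i
  unfold support₂
  rw [Finset.mem_filter_univ, Finset.mem_filter_univ]
  show x i % 4 = k % 4 ↔ ((x i / 2 : ℤ) : ZMod 2) + (((k / 2 : ℤ) : ZMod 2) + 1) ≠ 0
  have hp := hpar i
  rcases zmod_cast_even_or_odd (x i / 2) with ⟨hu, hu'⟩ | ⟨hu, hu'⟩ <;>
    rcases zmod_cast_even_or_odd (k / 2) with ⟨hv, hv'⟩ | ⟨hv, hv'⟩ <;>
    rw [hu', hv'] <;>
    first
      | exact iff_of_true (by omega) (by decide)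
      | exact iff_of_false (by omega) (by decide)

theorem const_mem_golayCode (a : ZMod 2) : (fun _ => a : GolayPt → ZMod 2) ∈ golayCode := by
  have := golayCode.smul_mem a one_mem_golayCode
  convert this using 1
  funext i; simp

theorem mem_leechSet_iff (x : GolayPt → ℤ) : x ∈ leechSet ↔ IsLeech x := by
  constructor
  · rintro ⟨m, hpar, hsum, hk⟩
    simp only [Int.ModEq] at hpar hsum
    have hp : ∀ i, x i % 2 = x none % 2 := fun i => (hpar i).trans (hpar none).symm
    refine ⟨hp, ?_, ?_⟩
    · have h := hk (x none)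
      rw [filter_mod_four_eq x hp _ rfl, mem_supports_iff, SetLike.mem_coe] at h
      have := golayCode.add_mem h (const_mem_golayCode (bit (x none) + 1))
      convert this using 1
      funext i
      simp only [Pi.add_apply]
      rw [add_assoc, CharTwo.add_self_eq_zero, add_zero]
    · have := hpar none; omega
  · rintro ⟨hp, hb, hs⟩
    refine ⟨x none, fun i => hp i, hs, fun k => ?_⟩
    by_cases hk : k % 2 = x none % 2
    · rw [filter_mod_four_eq x hp k hk, mem_supports_iff, SetLike.mem_coe]
      exact golayCode.add_mem hb (const_mem_golayCode _)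
    · have : (Finset.univ.filter fun i => x i ≡ k [ZMOD 4]) = support₂ (0 : GolayPt → ZMod 2) := by
        ext i
        simp only [support₂, Finset.mem_filter_univ, Pi.zero_apply, ne_eq, not_true_eq_false,
          iff_false]
        unfold Int.ModEq
        have := hp i; omega
      rw [this, mem_supports_iff]
      exact golayCode.zero_mem

theorem bits_add (x y : GolayPt → ℤ) (hx : ∀ i, x i % 2 = x none % 2)
    (hy : ∀ i, y i % 2 = y none % 2) :
    bits (x + y) = bits x + bits y +
      (fun _ => ((x none % 2 * (y none % 2) : ℤ) : ZMod 2)) := by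
  funext i
  simp only [bits, Pi.add_apply, bit_add, hx i, hy i]

theorem isLeech_add {x y : GolayPt → ℤ} (hx : IsLeech x) (hy : IsLeech y) : IsLeech (x + y) := by
  refine ⟨fun i => ?_, ?_, ?_⟩
  · have := hx.1 i; have := hy.1 i; simp only [Pi.add_apply]; omega
  · rw [bits_add x y hx.1 hy.1]
    exact golayCode.add_mem (golayCode.add_mem hx.2.1 hy.2.1) (const_mem_golayCode _)
  · have h1 := hx.2.2; have h2 := hy.2.2
    simp only [Pi.add_apply, Finset.sum_add_distrib]; omega

theorem isLeech_zero : IsLeech 0 := by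
  refine ⟨fun i => rfl, ?_, by simp⟩
  have : bits (0 : GolayPt → ℤ) = 0 := by funext i; simp [bits, bit]
  rw [this]; exact golayCode.zero_mem

theorem isLeech_neg {x : GolayPt → ℤ} (hx : IsLeech x) : IsLeech (-x) := by
  refine ⟨fun i => ?_, ?_, ?_⟩
  · have := hx.1 i; simp only [Pi.neg_apply]; omega
  · have h : bits (-x) = bits x + fun _ => ((x none % 2 : ℤ) : ZMod 2) := by
      funext i
      simp only [bits, bit, Pi.neg_apply, Pi.add_apply, ← hx.1 i]
      have e : -x i / 2 = -(x i / 2) - x i % 2 := by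
        rcases Int.emod_two_eq_zero_or_one (x i) with h | h <;> omega
      rw [e]; push_cast
      rw [ZMod.neg_eq_self_mod_two, sub_eq_add_neg, ZMod.neg_eq_self_mod_two]
    rw [h]
    exact golayCode.add_mem hx.2.1 (const_mem_golayCode _)
  · have h1 := hx.2.2; have := hx.1 none
    simp only [Pi.neg_apply, Finset.sum_neg_distrib]; omega

/-- The additive subgroup of vectors satisfying `IsLeech`. -/
def leechSub : AddSubgroup (GolayPt → ℤ) where
  carrier := {x | IsLeech x}
  zero_mem' := isLeech_zero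
  add_mem' := isLeech_add
  neg_mem' := isLeech_neg

theorem leechSet_eq : leechSet = (leechSub : Set (GolayPt → ℤ)) :=
  Set.ext fun x => mem_leechSet_iff x

theorem leechLattice_eq : leechLattice = leechSub := by
  rw [leechLattice, leechSet_eq, AddSubgroup.closure_eq]

theorem mem_leech_iff {x : GolayPt → ℤ} : x ∈ leechLattice ↔ IsLeech x := by
  rw [leechLattice_eq]; rfl

theorem mem_leech_iff_leechSet {x : GolayPt → ℤ} : x ∈ leechLattice ↔ x ∈ leechSet := by
  rw [mem_leech_iff, mem_leechSet_iff]

theorem mem_supports_comp {σ : Equiv.Perm GolayPt} (hσ : σ ∈ M24) {w : GolayPt → ZMod 2}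
    (hw : w ∈ golayCode) : w ∘ σ ∈ golayCode := by
  have h : σ⁻¹ • supports (golayCode : Set (GolayPt → ZMod 2)) =
      supports (golayCode : Set (GolayPt → ZMod 2)) := inv_mem hσ
  have h2 : support₂ (w ∘ σ) = σ⁻¹ • support₂ w := by
    ext i
    rw [Finset.mem_inv_smul_finset_iff]
    simp [support₂]
  have h3 : support₂ (w ∘ σ) ∈ supports (golayCode : Set (GolayPt → ZMod 2)) := by
    rw [← h, h2]
    exact Set.smul_mem_smul_set ((mem_supports_iff _ _).2 hw)
  exact (mem_supports_iff _ _).1 h3

theorem isLeech_comp {σ : Equiv.Perm GolayPt} (hσ : σ ∈ M24) {x : GolayPt → ℤ} (hx : IsLeech x) :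
    IsLeech (x ∘ σ) := by
  refine ⟨fun i => ?_, ?_, ?_⟩
  · simp only [Function.comp_apply]; have := hx.1 (σ i); have := hx.1 (σ none); omega
  · exact mem_supports_comp hσ hx.2.1
  · have hs : ∑ i, (x ∘ σ) i = ∑ i, x i := Equiv.sum_comp σ x
    rw [hs]; simp only [Function.comp_apply]
    have := hx.2.2; have := hx.1 (σ none); omega

end CfsgLib.Leech
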