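import Mathlib.Algebra.BigOperators.Ring.Finset
import Mathlib.Data.Fintype.BigOperators
import Mathlib.Data.Nat.ModEq
import Mathlib.Algebra.Order.BigOperators.Group.Finset
import Mathlib.Tactic

set_option autoImplicit false

namespace CfsgLib.Leech

/-- Reading one digit of a sum of powers. -/
theorem digit_sum_pow {α : Type*} (X : Finset α) (e : α → ℕ) (Q k : ℕ) (hQ : X.card < Q) :
    (∑ x ∈ X, Q ^ e x) / Q ^ k % Q = (X.filter fun x => e x = k).card := by
  classical
  have hQ0 : 0 < Q := by omega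
  have hsplit : ∑ x ∈ X, Q ^ e x =
      (∑ x ∈ X.filter (fun x => e x < k), Q ^ e x) +
      Q ^ k * ((X.filter fun x => e x = k).card +
        Q * ∑ x ∈ X.filter (fun x => k < e x), Q ^ (e x - k - 1)) := by
    rw [mul_add, Finset.card_eq_sum_ones, Finset.mul_sum, ← mul_assoc, Finset.mul_sum]
    rw [Finset.sum_filter, Finset.sum_filter, Finset.sum_filter, ← Finset.sum_add_distrib,
      ← Finset.sum_add_distrib]
    refine Finset.sum_congr rfl fun x _ => ?_
    rcases lt_trichotomy (e x) k with h | h | h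
    · rw [if_pos h, if_neg (by omega), if_neg (by omega), add_zero, add_zero]
    · rw [if_neg (by omega), if_pos h, if_neg (by omega), h]; simp
    · rw [if_neg (by omega), if_neg (by omega), if_pos h, zero_add, zero_add, ← pow_succ, ← pow_add]
      congr 1; omega
  have hsmall : (∑ x ∈ X.filter (fun x => e x < k), Q ^ e x) < Q ^ k := by
    rcases Nat.eq_zero_or_pos k with hk | hk
    · subst hk; simp
    · calc (∑ x ∈ X.filter (fun x => e x < k), Q ^ e x)
          ≤ ∑ _x ∈ X.filter (fun x => e x < k), Q ^ (k - 1) := by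
            refine Finset.sum_le_sum fun x hx => Nat.pow_le_pow_right hQ0 ?_
            have := (Finset.mem_filter.1 hx).2; omega
        _ ≤ X.card * Q ^ (k - 1) := by
            rw [Finset.sum_const, smul_eq_mul]
            exact Nat.mul_le_mul_right _ (Finset.card_filter_le _ _)
        _ < Q * Q ^ (k - 1) := Nat.mul_lt_mul_of_pos_right hQ (Nat.pow_pos hQ0)
        _ = Q ^ k := by rw [← pow_succ']; congr 1; omega
  rw [hsplit, Nat.add_mul_div_left _ _ (Nat.pow_pos hQ0), Nat.div_eq_of_lt hsmall, zero_add,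
    Nat.add_mul_mod_self_left]
  apply Nat.mod_eq_of_lt
  exact lt_of_le_of_lt (Finset.card_filter_le _ _) hQ

/-- Counting functions with prescribed values by a congruence statistic `r` modulo `m` and an exact
statistic `u`, read off from one product of natural numbers. -/
theorem card_pi_filter {ι A : Type*} [Fintype ι] [DecidableEq ι] (S : ι → Finset A)
    (r u : ι → A → ℕ) (m D Q ρ n : ℕ) (hρ : ρ < m)
    (hn : n < D) (hQ : (Fintype.piFinset S).card < Q)
    (hD : ∀ x ∈ Fintype.piFinset S, ∑ i, u i (x i) < D) (hmD : 2 ≤ m * D) (hQ2 : 2 ≤ Q) :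
    ((Fintype.piFinset S).filter
        fun x => (∑ i, r i (x i)) % m = ρ ∧ ∑ i, u i (x i) = n).card =
      (∏ i, ∑ a ∈ S i, Q ^ (r i a * D + u i a)) % (Q ^ (m * D) - 1) / Q ^ (ρ * D + n) % Q := by
  classical
  set X := Fintype.piFinset S with hX
  set e := fun x : ι → A => (∑ i, r i (x i)) % m * D + ∑ i, u i (x i) with he
  have hm : 0 < m := by omega
  have hDpos : 0 < D := by omega
  have hQ0 : 0 < Q := by omega
  have hM : Q ^ (m * D) ≡ 1 [MOD Q ^ (m * D) - 1] := by
    have h1 : 1 ≤ Q ^ (m * D) := Nat.one_le_pow _ _ hQ0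
    have := (Nat.modEq_iff_dvd' h1).2 (dvd_refl _)
    exact this.symm
  have key : ∀ x : ι → A, ∏ i, Q ^ (r i (x i) * D + u i (x i)) ≡ Q ^ e x
      [MOD Q ^ (m * D) - 1] := by
    intro x
    rw [Finset.prod_pow_eq_pow_sum, Finset.sum_add_distrib, ← Finset.sum_mul]
    have h : (∑ i, r i (x i)) * D + ∑ i, u i (x i) =
        m * D * ((∑ i, r i (x i)) / m) + e x := by
      simp only [he]
      conv_lhs => rw [← Nat.div_add_mod (∑ i, r i (x i)) m]
      ring
    rw [h, pow_add, pow_mul]
    have h2 := (hM.pow ((∑ i, r i (x i)) / m)).mul_right (Q ^ e x)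
    rw [one_pow, one_mul] at h2
    simpa only [pow_mul] using h2
  have hsum : (∏ i, ∑ a ∈ S i, Q ^ (r i a * D + u i a)) ≡ ∑ x ∈ X, Q ^ e x
      [MOD Q ^ (m * D) - 1] := by
    rw [Finset.prod_univ_sum]
    unfold Nat.ModEq
    rw [Finset.sum_nat_mod, Finset.sum_congr rfl (fun x _ => key x), ← Finset.sum_nat_mod]
  have hlt : ∑ x ∈ X, Q ^ e x < Q ^ (m * D) - 1 := by
    have hb : ∑ x ∈ X, Q ^ e x ≤ X.card * Q ^ (m * D - 1) := by
      calc ∑ x ∈ X, Q ^ e x ≤ ∑ _x ∈ X, Q ^ (m * D - 1) := by
            refine Finset.sum_le_sum fun x hx => Nat.pow_le_pow_right hQ0 ?_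
            have h1 := hD x hx
            have h2 : (∑ i, r i (x i)) % m + 1 ≤ m := Nat.mod_lt _ hm
            have h3 := Nat.mul_le_mul_right D h2
            simp only [he]
            rw [add_mul, one_mul] at h3
            omega
        _ = _ := by rw [Finset.sum_const, smul_eq_mul]
    have hp : Q ^ (m * D) = Q * Q ^ (m * D - 1) := by rw [← pow_succ']; congr 1; omega
    have hbig : 2 ≤ Q ^ (m * D - 1) :=
      le_trans hQ2 (Nat.le_self_pow (by omega) Q)
    have h3 := Nat.mul_le_mul_right (Q ^ (m * D - 1)) (Nat.le_sub_one_of_lt hQ)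
    rw [Nat.sub_mul, one_mul] at h3
    have h4 : Q ^ (m * D - 1) ≤ Q * Q ^ (m * D - 1) := Nat.le_mul_of_pos_left _ hQ0
    omega
  rw [Nat.ModEq, Nat.mod_eq_of_lt hlt] at hsum
  rw [hsum, digit_sum_pow X e Q _ hQ]
  refine congrArg Finset.card (Finset.filter_congr fun x hx => ?_)
  have h1 := hD x hx
  simp only [he]
  constructor
  · rintro ⟨h, h'⟩; rw [h, h']
  · intro h
    have h5 : (∑ i, r i (x i)) % m = ρ := by
      rcases lt_trichotomy ((∑ i, r i (x i)) % m) ρ with hl | hl | hl
      · have := Nat.mul_le_mul_right D (Nat.succ_le_of_lt hl); rw [Nat.succ_mul] at this; omega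
      · exact hl
      · have := Nat.mul_le_mul_right D (Nat.succ_le_of_lt hl); rw [Nat.succ_mul] at this; omega
    refine ⟨h5, ?_⟩
    rw [h5] at h; omega

end CfsgLib.Leech
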