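import Cfsg.Agent.Lib.Leech.Basic
import Cfsg.Agent.Lib.Leech.Count

set_option autoImplicit false

namespace CfsgLib.Leech

open Cfsg
open scoped Classical

/-- The code as a finite set of words. -/
noncomputable def codeFin : Finset (GolayPt → ZMod 2) :=
  Finset.univ.filter fun c => c ∈ golayCode

theorem mem_codeFin {c : GolayPt → ZMod 2} : c ∈ codeFin ↔ c ∈ golayCode := by
  simp [codeFin]

/-- The number of code words of a given weight. -/
noncomputable def codeWt (w : ℕ) : ℕ := (codeFin.filter fun c => hammingNorm c = w).card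

/-- Integers of absolute value at most 8 with given parity and bit. -/
def valSet : Bool → Bool → Finset ℤ
  | false, false => {0, 4, -4, 8, -8}
  | false, true => {2, -2, 6, -6}
  | true, false => {1, -3, 5, -7}
  | true, true => {-1, 3, -5, 7}

/-- A parity as an integer. -/
def bval (p : Bool) : ℤ := if p then 1 else 0

theorem mem_valSet (p b : Bool) (a : ℤ) :
    a ∈ valSet p b ↔ a * a ≤ 80 ∧ a % 2 = bval p ∧ a / 2 % 2 = bval b := by
  constructor
  · revert a
    cases p <;> cases b <;> decide
  · rintro ⟨h, hp, hb⟩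
    have h1 : -8 ≤ a := by nlinarith
    have h2 : a ≤ 8 := by nlinarith
    interval_cases a <;> cases p <;> cases b <;> first | rfl | exact absurd hp (by decide) | exact absurd hb (by decide) | decide

/-- Convert a bit to a Boolean. -/
def toB (a : ZMod 2) : Bool := decide (a = 1)

theorem bval_toB_iff (a : ℤ) (z : ZMod 2) : a / 2 % 2 = bval (toB z) ↔ bit a = z := by
  unfold bit toB
  rcases zmod_two_cases z with rfl | rfl <;>
    rcases zmod_cast_even_or_odd (a / 2) with ⟨h, h'⟩ | ⟨h, h'⟩ <;>
    rw [h', h] <;> decide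

theorem sq_eq_four_mul_add {a : ℤ} {p : Bool} (h : a % 2 = bval p) :
    a ^ 2 = 4 * (((a * a).toNat / 4 : ℕ) : ℤ) + bval p := by
  obtain ⟨k, hk⟩ : ∃ k, a = 2 * k + bval p := ⟨a / 2, by omega⟩
  cases p
  · simp only [bval] at hk ⊢
    have e : a * a = 4 * (k * k) := by subst hk; simp; ring
    have e' : 0 ≤ k * k := mul_self_nonneg k
    rw [pow_two]; simp only [Bool.false_eq_true, if_false]; omega
  · simp only [bval] at hk ⊢
    have e : a * a = 4 * (k * k + k) + 1 := by subst hk; simp; ring
    have e' : 0 ≤ a * a := mul_self_nonneg a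
    rw [pow_two]; simp only [if_true]; omega

/-- The candidates with given parity and bit word. -/
noncomputable def censusPart (N : ℤ) (p : Bool) (c : GolayPt → ZMod 2) :
    Finset (GolayPt → ℤ) :=
  (Fintype.piFinset fun i => valSet p (toB (c i))).filter
    fun x => (∑ i, x i) % 8 = 4 * bval p ∧ sqNorm x = N

theorem mem_censusPart {N : ℤ} (hN : N ≤ 80) {p : Bool} {c : GolayPt → ZMod 2} {x : GolayPt → ℤ} :
    x ∈ censusPart N p c ↔
      (∀ i, x i % 2 = bval p) ∧ bits x = c ∧ (∑ i, x i) % 8 = 4 * bval p ∧ sqNorm x = N := by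
  simp only [censusPart, Finset.mem_filter, Fintype.mem_piFinset, mem_valSet]
  constructor
  · rintro ⟨h, hs, hn⟩
    exact ⟨fun i => (h i).2.1, funext fun i => (bval_toB_iff _ _).1 (h i).2.2, hs, hn⟩
  · rintro ⟨hp, hc, hs, hn⟩
    refine ⟨fun i => ⟨?_, hp i, (bval_toB_iff _ _).2 (congrFun hc i)⟩, hs, hn⟩
    have h1 : x i ^ 2 ≤ sqNorm x :=
      Finset.single_le_sum (f := fun j => x j ^ 2) (fun j _ => sq_nonneg _) (Finset.mem_univ i)
    rw [pow_two] at h1
    exact le_trans h1 (hn.trans_le hN)

theorem census_eq (N : ℤ) (hN : N ≤ 80) :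
    {x : GolayPt → ℤ | x ∈ leechLattice ∧ sqNorm x = N} =
      ↑((Finset.univ ×ˢ codeFin).biUnion fun pc => censusPart N pc.1 pc.2) := by
  ext x
  simp only [Set.mem_setOf_eq, Finset.coe_biUnion, Set.mem_iUnion, Finset.mem_coe,
    Finset.mem_product, Finset.mem_univ, true_and, mem_censusPart hN, mem_codeFin, mem_leech_iff]
  constructor
  · rintro ⟨⟨h1, h2, h3⟩, h4⟩
    have hb : x none % 2 = bval (decide (x none % 2 = 1)) := by
      rcases Int.emod_two_eq_zero_or_one (x none) with h | h <;> rw [h] <;> rfl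
    refine ⟨(decide (x none % 2 = 1), bits x), h2, fun i => (h1 i).trans hb, rfl, ?_, h4⟩
    rw [h3, ← hb]; omega
  · rintro ⟨⟨p, c⟩, hc, hp, hb, hs, hn⟩
    refine ⟨⟨fun i => (hp i).trans (hp none).symm, hb ▸ hc, ?_⟩, hn⟩
    have h1 : x none % 2 = bval p := hp none
    have h2 : (∑ i, x i) % 8 = 4 * bval p := hs
    cases p <;> simp only [bval, Bool.false_eq_true, if_false, if_true] at h1 h2 <;> omega

/-- The number of candidates of one part, as an arithmetic expression. -/
def partCount (N : ℕ) (p : Bool) (w : ℕ) : ℕ :=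
  let f := fun b => ∑ a ∈ valSet p b,
    (2 ^ 64) ^ ((a % 8).toNat * 385 + (a * a).toNat / 4)
  let pn := if p then 1 else 0
  f true ^ w * f false ^ (24 - w) % ((2 ^ 64) ^ (8 * 385) - 1) /
    (2 ^ 64) ^ (4 * pn * 385 + (N - 24 * pn) / 4) % 2 ^ 64

theorem card_censusPart (N : ℕ) (hN : N ≤ 80) (hN24 : 24 ≤ N) (hN4 : N % 4 = 0) (p : Bool)
    (c : GolayPt → ZMod 2) :
    (censusPart (N : ℤ) p c).card = partCount N p (hammingNorm c) := by
  set pn : ℕ := if p then 1 else 0 with hpn
  have hp : bval p = (pn : ℤ) := by cases p <;> rfl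
  have hpn2 : pn ≤ 1 := by cases p <;> simp [hpn]
  have hQ : (Fintype.piFinset fun i => valSet p (toB (c i))).card < 2 ^ 64 := by
    rw [Fintype.card_piFinset]
    refine lt_of_le_of_lt (Finset.prod_le_prod' (g := fun _ => 5) fun i _ => ?_) ?_
    · cases p <;> cases toB (c i) <;> decide
    · rw [Finset.prod_const]; simp
  have hD : ∀ x ∈ Fintype.piFinset (fun i => valSet p (toB (c i))),
      ∑ i, (x i * x i).toNat / 4 < 385 := by
    intro x hx
    refine lt_of_le_of_lt (Finset.sum_le_sum (g := fun _ => 16) fun i _ => ?_) (by simp)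
    have := Fintype.mem_piFinset.1 hx i
    revert this
    generalize x i = a
    revert a
    cases p <;> cases toB (c i) <;> decide
  have h := card_pi_filter (fun i => valSet p (toB (c i))) (fun _ a => (a % 8).toNat)
    (fun _ a => (a * a).toNat / 4) 8 385 (2 ^ 64) (4 * pn) ((N - 24 * pn) / 4)
    (by omega) (by omega) hQ hD (by omega) (by norm_num)
  have hset : censusPart (N : ℤ) p c =
      (Fintype.piFinset fun i => valSet p (toB (c i))).filter fun x =>
        (∑ i, (x i % 8).toNat) % 8 = 4 * pn ∧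
          ∑ i, (x i * x i).toNat / 4 = (N - 24 * pn) / 4 := by
    unfold censusPart
    refine Finset.filter_congr fun x hx => ?_
    have hs : (((∑ i, (x i % 8).toNat) % 8 : ℕ) : ℤ) = (∑ i, x i) % 8 := by
      push_cast
      rw [Finset.sum_int_mod (f := x)]
      refine congrArg (· % 8) (Finset.sum_congr rfl fun i _ => ?_)
      exact Int.toNat_of_nonneg (Int.emod_nonneg _ (by norm_num))
    have hn : sqNorm x = 4 * ((∑ i, (x i * x i).toNat / 4 : ℕ) : ℤ) + 24 * pn := by
      unfold sqNorm
      rw [Nat.cast_sum, Finset.mul_sum]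
      have : (24 : ℤ) * pn = ∑ _i : GolayPt, bval p := by
        rw [hp, Finset.sum_const]; simp
      rw [this, ← Finset.sum_add_distrib]
      refine Finset.sum_congr rfl fun i _ => sq_eq_four_mul_add ?_
      exact ((mem_valSet _ _ _).1 (Fintype.mem_piFinset.1 hx i)).2.1
    rw [hn, ← hs, hp]
    constructor <;> rintro ⟨a, b⟩ <;> constructor <;> omega
  rw [hset, h]
  have hprod : (∏ i, ∑ a ∈ valSet p (toB (c i)),
        (2 ^ 64) ^ ((a % 8).toNat * 385 + (a * a).toNat / 4)) =
      (∑ a ∈ valSet p true, (2 ^ 64) ^ ((a % 8).toNat * 385 + (a * a).toNat / 4)) ^ hammingNorm c *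
      (∑ a ∈ valSet p false, (2 ^ 64) ^ ((a % 8).toNat * 385 + (a * a).toNat / 4)) ^
        (24 - hammingNorm c) := by
    rw [← Finset.prod_filter_mul_prod_filter_not Finset.univ (fun i => c i ≠ 0)]
    congr 1
    · rw [Finset.prod_congr rfl (g := fun _ => _), Finset.prod_const]
      · rfl
      · intro i hi
        rw [Finset.mem_filter_univ] at hi
        rcases zmod_two_cases (c i) with h0 | h0
        · exact absurd h0 hi
        · rw [h0]; rfl
    · rw [Finset.prod_congr rfl (g := fun _ => _), Finset.prod_const]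
      · congr 1
        rw [Finset.filter_not, Finset.card_sdiff_of_subset (Finset.subset_univ _)]
        rfl
      · intro i hi
        rw [Finset.mem_filter_univ, not_not] at hi
        rw [hi]; rfl
  rw [hprod]
  rfl

theorem census_card (N : ℕ) (hN : N ≤ 80) (hN24 : 24 ≤ N) (hN4 : N % 4 = 0) :
    {x : GolayPt → ℤ | x ∈ leechLattice ∧ sqNorm x = (N : ℤ)}.ncard =
      ∑ p : Bool, ∑ w ∈ Finset.range 25, codeWt w * partCount N p w := by
  rw [census_eq _ (by exact_mod_cast hN), Set.ncard_coe_finset, Finset.card_biUnion]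
  · rw [Finset.sum_product]
    refine Finset.sum_congr rfl fun p _ => ?_
    rw [← Finset.sum_fiberwise_of_maps_to (g := fun c => hammingNorm c) (t := Finset.range 25)]
    · refine Finset.sum_congr rfl fun w _ => ?_
      rw [codeWt, ← smul_eq_mul, ← Finset.sum_const]
      refine Finset.sum_congr rfl fun c hc => ?_
      rw [card_censusPart N hN hN24 hN4, (Finset.mem_filter.1 hc).2]
    · intro c _
      rw [Finset.mem_range]
      have := hammingNorm_le_card_fintype (x := c)
      simp at this; omega
  · rintro ⟨p, c⟩ _ ⟨q, d⟩ _ hne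
    rw [Function.onFun, Finset.disjoint_left]
    intro x hx hy
    rw [mem_censusPart (by exact_mod_cast hN)] at hx hy
    apply hne
    have h1 := hx.1 none
    have h2 := hy.1 none
    have : p = q := by cases p <;> cases q <;> simp_all [bval]
    exact Prod.ext this (hx.2.1.symm.trans hy.2.1)

end CfsgLib.Leech
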