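import Cfsg.Agent.Lib.Leech.Basic
import Mathlib.GroupTheory.Index

set_option autoImplicit false

namespace CfsgLib.Leech

open Cfsg

/-- Vectors all of whose coordinates have the same parity. -/
def paritySub : AddSubgroup (GolayPt → ℤ) where
  carrier := {x | ∀ i, x i % 2 = x none % 2}
  zero_mem' := fun i => rfl
  add_mem' := fun {x y} hx hy i => by
    have := hx i; have := hy i; simp only [Pi.add_apply]; omega
  neg_mem' := fun {x} hx i => by
    have := hx i; simp only [Pi.neg_apply]; omega

/-- Parity differences against the extra point. -/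
def parityHom : (GolayPt → ℤ) →+ (ZMod 23 → ZMod 2) where
  toFun x := fun i => ((x (some i) - x none : ℤ) : ZMod 2)
  map_zero' := by funext i; simp
  map_add' x y := by funext i; simp; ring

theorem paritySub_index : paritySub.index = 2 ^ 23 := by
  have hk : parityHom.ker = paritySub := by
    ext x
    rw [AddMonoidHom.mem_ker]
    constructor
    · intro h i
      rcases i with _ | i
      · rfl
      · have h1 : ((x (some i) - x none : ℤ) : ZMod 2) = 0 := congrFun h i
        rw [ZMod.intCast_zmod_eq_zero_iff_dvd] at h1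
        push_cast at h1; omega
    · intro h
      funext i
      show ((x (some i) - x none : ℤ) : ZMod 2) = 0
      rw [ZMod.intCast_zmod_eq_zero_iff_dvd]
      have := h (some i); push_cast; omega
  rw [← hk, AddSubgroup.index_ker,
    AddMonoidHom.range_eq_top.2 (fun y =>
      ⟨fun p => p.elim 0 fun i => ((y i).val : ℤ), by
        funext i; simp [parityHom]⟩)]
  simp

/-- The class of the bit word modulo the code. -/
noncomputable def bitsHom : paritySub →+ (GolayPt → ZMod 2) ⧸ golayCode where
  toFun x := Submodule.Quotient.mk (bits x.1)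
  map_zero' := by
    rw [Submodule.Quotient.mk_eq_zero]
    have : bits (0 : GolayPt → ℤ) = 0 := by funext i; simp [bits, bit]
    exact this ▸ golayCode.zero_mem
  map_add' x y := by
    rw [← Submodule.Quotient.mk_add, AddSubgroup.coe_add, bits_add x.1 y.1 x.2 y.2,
      Submodule.Quotient.eq, add_sub_cancel_left]
    exact const_mem_golayCode _

theorem bitsHom_surjective : Function.Surjective bitsHom := by
  intro q
  induction q using Submodule.Quotient.induction_on with
  | H z =>
    refine ⟨⟨fun i => 2 * ((z i).val : ℤ), fun i => by dsimp only; omega⟩, ?_⟩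
    show Submodule.Quotient.mk _ = Submodule.Quotient.mk z
    refine congrArg _ (funext fun i => ?_)
    simp [bits, bit]

/-- Vectors with a constant parity and bit word in the code. -/
noncomputable def bitsSub : AddSubgroup (GolayPt → ℤ) := bitsHom.ker.map paritySub.subtype

theorem mem_bitsSub {x : GolayPt → ℤ} :
    x ∈ bitsSub ↔ (∀ i, x i % 2 = x none % 2) ∧ bits x ∈ golayCode := by
  constructor
  · rintro ⟨⟨y, hy⟩, hk, rfl⟩
    exact ⟨hy, (Submodule.Quotient.mk_eq_zero _).1 hk⟩
  · rintro ⟨h, hb⟩
    exact ⟨⟨x, h⟩, (Submodule.Quotient.mk_eq_zero _).2 hb, rfl⟩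

theorem bitsSub_index (hC : Nat.card golayCode = 2 ^ 12) : bitsSub.index = 2 ^ 35 := by
  have hq : Nat.card ((GolayPt → ZMod 2) ⧸ golayCode) = 2 ^ 12 := by
    have h := Submodule.card_eq_card_quotient_mul_card golayCode
    rw [hC] at h
    have hV : Nat.card (GolayPt → ZMod 2) = 2 ^ 24 := by simp
    omega
  rw [bitsSub, AddSubgroup.index_map, AddSubgroup.ker_subtype, sup_bot_eq,
    AddSubgroup.range_subtype, paritySub_index, AddSubgroup.index_ker,
    AddMonoidHom.range_eq_top.2 bitsHom_surjective, AddSubgroup.card_top, hq]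
  rfl

theorem zmod_two_val_sum_even (c : GolayPt → ZMod 2) (h : (∑ i, c i) = 0) :
    (∑ i, (c i).val) % 2 = 0 := by
  have h2 : ((∑ i, (c i).val : ℕ) : ZMod 2) = 0 := by
    rw [Nat.cast_sum]; simpa using h
  rw [ZMod.natCast_eq_zero_iff_even] at h2
  exact Nat.even_iff.1 h2

theorem sum_emod_four (hev : ∀ c ∈ golayCode, (∑ i, c i) = 0) {x : GolayPt → ℤ}
    (hx : x ∈ bitsSub) : (∑ i, x i) % 4 = 0 := by
  obtain ⟨hp, hb⟩ := mem_bitsSub.1 hx
  have h1 : ∀ i, x i % 4 = (x none % 2 + 2 * ((bit (x i)).val : ℤ)) % 4 := by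
    intro i
    have := hp i
    rcases zmod_cast_even_or_odd (x i / 2) with ⟨hu, hu'⟩ | ⟨hu, hu'⟩ <;>
      simp only [bit, hu'] <;>
      simp only [ZMod.val_zero, ZMod.val_one, Nat.cast_zero, Nat.cast_one] <;> omega
  have h2 := zmod_two_val_sum_even _ (hev _ hb)
  have h3 : ((∑ i, (bits x i).val : ℕ) : ℤ) = ∑ i, ((bit (x i)).val : ℤ) := by
    rw [Nat.cast_sum]; rfl
  rw [Finset.sum_int_mod, Finset.sum_congr rfl (fun i _ => h1 i), ← Finset.sum_int_mod,
    Finset.sum_add_distrib, ← Finset.mul_sum, ← h3, Finset.sum_const]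
  simp only [Finset.card_univ, Fintype.card_option, ZMod.card, nsmul_eq_mul]
  omega

/-- The last congruence condition. -/
def sumHom (hev : ∀ c ∈ golayCode, (∑ i, c i) = 0) : bitsSub →+ ZMod 2 where
  toFun x := (((∑ i, x.1 i) - 4 * x.1 none) / 4 : ℤ)
  map_zero' := by simp
  map_add' x y := by
    have h1 := sum_emod_four hev x.2
    have h2 := sum_emod_four hev y.2
    rw [← Int.cast_add]
    refine congrArg _ ?_
    simp only [AddSubgroup.coe_add, Pi.add_apply, Finset.sum_add_distrib]
    omega

theorem leech_index (hC : Nat.card golayCode = 2 ^ 12) (hev : ∀ c ∈ golayCode, (∑ i, c i) = 0) :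
    leechLattice.index = 2 ^ 36 := by
  have hmap : (sumHom hev).ker.map bitsSub.subtype = leechLattice := by
    ext x
    rw [mem_leech_iff]
    constructor
    · rintro ⟨⟨y, hy⟩, hk, rfl⟩
      have h1 := sum_emod_four hev hy
      have h2 : (((∑ i, y i) - 4 * y none) / 4 : ℤ) % 2 = 0 := by
        have h := (ZMod.intCast_zmod_eq_zero_iff_dvd _ 2).1 hk
        push_cast at h; omega
      refine ⟨(mem_bitsSub.1 hy).1, (mem_bitsSub.1 hy).2, ?_⟩
      show (∑ i, y i) % 8 = 4 * y none % 8
      omega
    · rintro ⟨h1, h2, h3⟩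
      refine ⟨⟨x, mem_bitsSub.2 ⟨h1, h2⟩⟩, ?_, rfl⟩
      show (((∑ i, x i) - 4 * x none) / 4 : ℤ) = (0 : ZMod 2)
      rw [ZMod.intCast_zmod_eq_zero_iff_dvd]
      push_cast; omega
  have hsur : Function.Surjective (sumHom hev) := by
    intro z
    have h4 : (fun i : GolayPt => if i = none then (4 : ℤ) else 0) ∈ bitsSub := by
      refine mem_bitsSub.2 ⟨fun i => by cases i <;> simp, ?_⟩
      have : bits (fun i : GolayPt => if i = none then (4 : ℤ) else 0) = 0 := by
        funext i; cases i <;> simp [bits, bit] <;> decide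
      rw [this]; exact golayCode.zero_mem
    rcases zmod_two_cases z with rfl | rfl
    · exact ⟨0, map_zero _⟩
    · refine ⟨⟨_, h4⟩, ?_⟩
      show (((∑ i : GolayPt, if i = none then (4 : ℤ) else 0) - 4 * if (none : GolayPt) = none then (4 : ℤ) else 0) / 4 : ℤ) = (1 : ZMod 2)
      rw [Finset.sum_ite_eq']
      decide
  rw [← hmap, AddSubgroup.index_map, AddSubgroup.ker_subtype, sup_bot_eq,
    AddSubgroup.range_subtype, bitsSub_index hC, AddSubgroup.index_ker,
    AddMonoidHom.range_eq_top.2 hsur, AddSubgroup.card_top, Nat.card_zmod]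
  rfl

end CfsgLib.Leech
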