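import Mathlib
import Cfsg.Agent.Lib.Leech.Order
import Cfsg.Agent.Lib.Leech.Check
import Cfsg.Agent.Lib.Lattice.LeechClasses

/-! The lattice modulo twice itself: the kernel of the action is the centre and there is no invariant
subgroup between the two. -/

set_option autoImplicit false

namespace CfsgLib.LeechModTwo

open Cfsg CfsgLib CfsgLib.Leech

/-- A vector given by its coordinates in numbering order. -/
def vec (l : List ℤ) : GolayPt → ℤ := fun p => l.getD (Golay.bit p) 0

def u48 : GolayPt → ℤ := vec [4,0,0,0,0,0,0,-4]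
def v48 : GolayPt → ℤ := vec [0,0,0,0,0,0,0,2,0,0,0,0,2,0,2,2,0,2,2,2,2]
def m48 : GolayPt → ℤ := vec [0,0,0,0,0,0,0,0,0,0,0,0,4,0,4]
def u64 : GolayPt → ℤ := vec [4,4]
def v64 : GolayPt → ℤ := vec [0,0,4,4]
def m64 : GolayPt → ℤ := vec [4,0,0,0,4]

theorem checks : leechB u48 = true ∧ leechB v48 = true ∧ leechB m48 = true ∧ leechB u64 = true ∧
    leechB v64 = true ∧ leechB m64 = true ∧ sqNorm u48 = 32 ∧ sqNorm v48 = 32 ∧ sqNorm m48 = 32 ∧
    sqNorm u64 = 32 ∧ sqNorm v64 = 32 ∧ sqNorm m64 = 32 ∧ sqNorm (u48 + v48) = 48 ∧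
    sqNorm (u48 + v48 - m48) = 48 ∧ sqNorm (u64 + v64) = 64 ∧ sqNorm (u64 + v64 - m64) = 64 := by
  decide +kernel

theorem eq_or_eq_neg_of_norm32 {x y z : GolayPt → ℤ} (hz : z ∈ leechLattice) (h : x - y = 2 • z)
    (hx : sqNorm x = 32) (hy : sqNorm y = 32) : x = y ∨ x = -y := by
  by_cases hz0 : z = 0
  · left; rw [hz0, smul_zero] at h; exact sub_eq_zero.1 h
  right
  have h1 := leech_min_norm hz hz0
  have h2 : sqNorm (x - y) = 4 * sqNorm z := by
    rw [h]; simp only [sqNorm, Finset.mul_sum, Pi.smul_apply, nsmul_eq_mul]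
    exact Finset.sum_congr rfl fun i _ => by push_cast; ring
  have h3 : sqNorm (x - y) + sqNorm (x + y) = 2 * sqNorm x + 2 * sqNorm y := by
    simp only [sqNorm, Finset.mul_sum, ← Finset.sum_add_distrib, Pi.sub_apply, Pi.add_apply]
    exact Finset.sum_congr rfl fun i _ => by ring
  have h4 : 0 ≤ sqNorm (x + y) := Finset.sum_nonneg fun i _ => sq_nonneg _
  have h5 : sqNorm (x + y) = 0 := by omega
  refine funext fun i => ?_
  have h6 := (Finset.sum_eq_zero_iff_of_nonneg fun i _ => sq_nonneg ((x + y) i)).1 h5 i (Finset.mem_univ i)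
  have h7 : (x + y) i = 0 := pow_eq_zero_iff two_ne_zero |>.1 h6
  simp only [Pi.add_apply, Pi.neg_apply] at h7 ⊢
  omega

theorem pairVec_mem {i j : GolayPt} (h : j ≠ i) (s : ℤ) (hs : s = 1 ∨ s = -1) :
    (Pi.single i 4 + Pi.single j (4 * s) : GolayPt → ℤ) ∈ leechLattice ∧
      sqNorm (Pi.single i 4 + Pi.single j (4 * s) : GolayPt → ℤ) = 32 := by
  refine ⟨mem_leech_iff.2 ⟨fun k => ?_, ?_, ?_⟩, ?_⟩
  · simp only [Pi.add_apply, Pi.single_apply]; rcases hs with rfl | rfl <;> split_ifs <;> omega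
  · have : bits (Pi.single i 4 + Pi.single j (4 * s) : GolayPt → ℤ) = 0 := by
      funext k
      simp only [bits, bit, Pi.add_apply, Pi.single_apply, Pi.zero_apply]
      rcases hs with rfl | rfl <;> split_ifs <;> decide
    rw [this]; exact zero_mem _
  · simp only [Pi.add_apply, Finset.sum_add_distrib]
    rw [Finset.sum_pi_single', Finset.sum_pi_single']
    simp only [Finset.mem_univ, if_true, Pi.single_apply]
    rcases hs with rfl | rfl <;> split_ifs <;> omega
  · have : ∀ k, (Pi.single i 4 + Pi.single j (4 * s) : GolayPt → ℤ) k ^ 2 =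
        (Pi.single i 16 + Pi.single j 16 : GolayPt → ℤ) k := fun k => by
      simp only [Pi.add_apply, Pi.single_apply]
      by_cases hki : k = i
      · subst hki; simp [Ne.symm h]
      · rcases hs with rfl | rfl <;> simp [hki] <;> split_ifs <;> norm_num
    rw [sqNorm, Finset.sum_congr rfl fun k _ => this k]
    simp [Finset.sum_add_distrib]

theorem kernel_central {g : Co0}
    (h : ∀ v : leechLattice, ∃ w : leechLattice,
      ((g • v : leechLattice) : GolayPt → ℤ) - (v : GolayPt → ℤ) = 2 • (w : GolayPt → ℤ)) :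
    g ∈ Subgroup.center Co0 := by
  have hfix : ∀ v : leechLattice, sqNorm (v : GolayPt → ℤ) = 32 → g • v = v ∨ g • v = -v := by
    intro v hv
    obtain ⟨w, hw⟩ := h v
    rcases eq_or_eq_neg_of_norm32 w.2 hw (by rw [sqNorm_smul, hv]) hv with e | e
    · exact Or.inl (Subtype.ext e)
    · exact Or.inr (Subtype.ext e)
  let pv : ∀ (i j : GolayPt), j ≠ i → ∀ s : ℤ, (s = 1 ∨ s = -1) → leechLattice :=
    fun i j hij s hs => ⟨_, (pairVec_mem hij s hs).1⟩
  have hsum : ∀ (i j : GolayPt) (hij : j ≠ i),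
      eightVec i = pv i j hij 1 (Or.inl rfl) + pv i j hij (-1) (Or.inr rfl) := by
    intro i j hij
    refine Subtype.ext (funext fun k => ?_)
    simp only [pv, coe_eightVec, AddSubgroup.coe_add, Pi.add_apply, Pi.single_apply]
    split_ifs <;> norm_num
  have hdiff : ∀ (i j : GolayPt) (hij : j ≠ i),
      eightVec j = pv i j hij 1 (Or.inl rfl) - pv i j hij (-1) (Or.inr rfl) := by
    intro i j hij
    refine Subtype.ext (funext fun k => ?_)
    simp only [pv, coe_eightVec, AddSubgroupClass.coe_sub, Pi.sub_apply, Pi.add_apply, Pi.single_apply]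
    split_ifs <;> norm_num
  have hpair : ∀ (i j : GolayPt), j ≠ i → (g • eightVec i = eightVec i ∨ g • eightVec i = -eightVec i ∨
      g • eightVec i = eightVec j ∨ g • eightVec i = -eightVec j) := by
    intro i j hij
    have h1 := hfix (pv i j hij 1 (Or.inl rfl)) (pairVec_mem hij 1 (Or.inl rfl)).2
    have h2 := hfix (pv i j hij (-1) (Or.inr rfl)) (pairVec_mem hij (-1) (Or.inr rfl)).2
    rw [hsum i j hij, smul_add', hdiff i j hij]
    rcases h1 with h1 | h1 <;> rcases h2 with h2 | h2 <;> rw [h1, h2]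
    · exact Or.inl rfl
    · exact Or.inr (Or.inr (Or.inl (by abel)))
    · exact Or.inr (Or.inr (Or.inr (by abel)))
    · exact Or.inr (Or.inl (by abel))
  have hev : ∀ i j : GolayPt, eightVec i = eightVec j ∨ eightVec i = -eightVec j → i = j := by
    intro i j hij
    by_contra hne
    rcases hij with e | e <;>
      · have := congrArg (fun v : leechLattice => (v : GolayPt → ℤ) i) e
        simp [coe_eightVec, hne] at this
  have hdiag : ∀ i, g • eightVec i = eightVec i ∨ g • eightVec i = -eightVec i := by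
    intro i
    obtain ⟨j, hj, k, hk, hjk⟩ : ∃ j, j ≠ i ∧ ∃ k, k ≠ i ∧ j ≠ k := by
      revert i; decide
    rcases hpair i j hj with e | e | e | e
    · exact Or.inl e
    · exact Or.inr e
    all_goals
      exfalso
      rcases hpair i k hk with e' | e' | e' | e' <;> rw [e] at e'
    · exact hj (hev j i (Or.inl e'))
    · exact hj (hev j i (Or.inr e'))
    · exact hjk (hev j k (Or.inl e'))
    · exact hjk (hev j k (Or.inr e'))
    · exact hj (hev j i (Or.inr (by rw [← e', neg_neg])))
    · exact hj (hev j i (Or.inl (neg_inj.1 e')))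
    · exact hjk (hev j k (Or.inr (by rw [← e', neg_neg])))
    · exact hjk (hev j k (Or.inl (neg_inj.1 e')))
  have hne : ∀ i, eightVec i ≠ -eightVec i := fun i e => by
    have := congrArg (fun v : leechLattice => (v : GolayPt → ℤ) i) e
    simp [coe_eightVec] at this
  have hmove : ∀ i j, g • eightVec i = eightVec i → g • eightVec j = eightVec j := by
    intro i j hi
    by_cases hij : j = i
    · rw [hij]; exact hi
    refine (hdiag j).resolve_right fun hj => ?_
    have h1 := hfix (pv i j hij 1 (Or.inl rfl)) (pairVec_mem hij 1 (Or.inl rfl)).2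
    have h2 := hfix (pv i j hij (-1) (Or.inr rfl)) (pairVec_mem hij (-1) (Or.inr rfl)).2
    rw [hsum i j hij, smul_add'] at hi
    rw [hdiff i j hij, sub_eq_add_neg, smul_add', smul_neg'] at hj
    rcases h1 with h1 | h1 <;> rcases h2 with h2 | h2 <;> rw [h1, h2] at hi hj
    · exact hne j (by rw [hdiff i j hij]; convert hj using 1 <;> abel)
    · exact hij (hev j i (Or.inl (by rw [hsum i j hij, hdiff i j hij]; convert hi using 1 <;> abel)))
    · exact hij (hev j i (Or.inr (by rw [hsum i j hij, hdiff i j hij, ← hi]; abel)))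
    · exact hne i (by rw [hsum i j hij]; convert hi.symm using 1; abel)
  have hmem : g ∈ ({1, negEl} : Set Co0) := by
    by_cases h0 : ∃ i, g • eightVec i = eightVec i
    · obtain ⟨i, hi⟩ := h0
      exact Or.inl (ext_eightVec fun j => by rw [one_smul, hmove i j hi])
    · refine Or.inr (ext_eightVec fun j => ?_)
      rcases hdiag j with e | e
      · exact absurd ⟨j, e⟩ h0
      · rw [e, negEl_smul]
  rwa [← center_eq] at hmem

theorem invariant_eq {M : AddSubgroup (GolayPt → ℤ)} (h2 : ∀ v ∈ leechLattice, (2 : ℤ) • v ∈ M)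
    (hle : M ≤ leechLattice)
    (hinv : ∀ g : Co0, ∀ v : leechLattice, (v : GolayPt → ℤ) ∈ M → ((g • v : leechLattice) : GolayPt → ℤ) ∈ M) :
    (∀ x ∈ M, ∃ w ∈ leechLattice, x = (2 : ℤ) • w) ∨ M = leechLattice := by
  by_cases htriv : ∀ x ∈ M, ∃ w ∈ leechLattice, x = (2 : ℤ) • w
  · exact Or.inl htriv
  push Not at htriv
  obtain ⟨x, hxM, hx⟩ := htriv
  refine Or.inr (le_antisymm hle ?_)
  obtain ⟨c1, c2, c3, c4, c5, c6, n1, n2, n3, n4, n5, n6, n7, n8, n9, n10⟩ := checks
  have hsplit : ∀ {a y : GolayPt → ℤ}, a ∈ leechLattice → y ∈ leechLattice →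
      ∀ z ∈ leechLattice, a - y = 2 • z → (a ∈ M ↔ y ∈ M) := by
    intro a y _ _ z hz e
    have hz2 : 2 • z ∈ M := by have := h2 z hz; rwa [← natCast_zsmul]
    rw [← e] at hz2
    exact ⟨fun ha => by simpa using sub_mem ha hz2, fun hy => by simpa using add_mem hz2 hy⟩
  have orbit : ∀ (N : ℤ), (N = 32 ∨ N = 48 ∨ N = 64) → ∀ a ∈ M, sqNorm a = N →
      ∀ b ∈ leechLattice, sqNorm b = N → b ∈ M := by
    intro N hN a ha han b hb hbn
    obtain ⟨g, hg⟩ : ∃ g : Co0, g • (⟨a, hle ha⟩ : leechLattice) = ⟨b, hb⟩ := by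
      rcases hN with rfl | rfl | rfl
      · exact Orbits.transitive32 _ _ han hbn
      · exact Orbits.transitive48 _ _ han hbn
      · exact Orbits.transitive64 _ _ han hbn
    have := hinv g ⟨a, hle ha⟩ ha
    rwa [hg] at this
  have u48m := mem_of_leechB c1
  have v48m := mem_of_leechB c2
  have m48m := mem_of_leechB c3
  have u64m := mem_of_leechB c4
  have v64m := mem_of_leechB c5
  have m64m := mem_of_leechB c6
  obtain ⟨y, hy, hyn, z, hz, hxy⟩ := Lattice.exists_short (hle hxM)
  have hyM : y ∈ M := (hsplit (hle hxM) hy z hz hxy).1 hxM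
  have hy0 : y ≠ 0 := fun e => hx z hz (by rw [← sub_zero x, ← e, hxy, ← natCast_zsmul]; rfl)
  have h32le := leech_min_norm hy hy0
  obtain ⟨q, hq⟩ := leech_even hy
  have h32 : ∀ b ∈ leechLattice, sqNorm b = 32 → b ∈ M := by
    rcases (show sqNorm y = 32 ∨ sqNorm y = 48 ∨ sqNorm y = 64 by omega) with e | e | e
    · exact orbit 32 (Or.inl rfl) y hyM e
    · have h48 := orbit 48 (Or.inr (Or.inl rfl)) y hyM e
      have hm : m48 ∈ M := by
        simpa using sub_mem (h48 _ (add_mem u48m v48m) n7) (h48 _ (sub_mem (add_mem u48m v48m) m48m) n8)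
      exact orbit 32 (Or.inl rfl) _ hm n3
    · have h64 := orbit 64 (Or.inr (Or.inr rfl)) y hyM e
      have hm : m64 ∈ M := by
        simpa using sub_mem (h64 _ (add_mem u64m v64m) n9) (h64 _ (sub_mem (add_mem u64m v64m) m64m) n10)
      exact orbit 32 (Or.inl rfl) _ hm n6
  have h48 := orbit 48 (Or.inr (Or.inl rfl)) _ (add_mem (h32 _ u48m n1) (h32 _ v48m n2)) n7
  have h64 := orbit 64 (Or.inr (Or.inr rfl)) _ (add_mem (h32 _ u64m n4) (h32 _ v64m n5)) n9
  intro a ha
  obtain ⟨b, hb, hbn, w, hw, hab⟩ := Lattice.exists_short ha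
  refine (hsplit ha hb w hw hab).2 ?_
  by_cases hb0 : b = 0
  · rw [hb0]; exact zero_mem M
  have hb32 := leech_min_norm hb hb0
  obtain ⟨q', hq'⟩ := leech_even hb
  rcases (show sqNorm b = 32 ∨ sqNorm b = 48 ∨ sqNorm b = 64 by omega) with e | e | e
  exacts [h32 b hb e, h48 b hb e, h64 b hb e]

end CfsgLib.LeechModTwo
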